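import Groth.Agent.Syntomic.BaseChange
import Groth.Agent.Calg6.FlatAdic
import Mathlib.RingTheory.Flat.Localization
import Mathlib.RingTheory.LocalRing.Module

/-! Base change of kernels and images of maps with flat cokernel. -/

set_option autoImplicit false

universe u

open TensorProduct

namespace Groth.Ega43Gr

section Piece

variable {A₀ : Type u} [CommRing A₀] {F N' N : Type u} [AddCommGroup F] [Module A₀ F]
  [AddCommGroup N'] [Module A₀ N'] [AddCommGroup N] [Module A₀ N]
  (ψ : F →ₗ[A₀] N') (π : N' →ₗ[A₀] N)
  (R : Type u) [CommRing R] [Algebra A₀ R]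
  (R' : Type u) [CommRing R'] [Algebra A₀ R'] [Algebra R R'] [IsScalarTower A₀ R R']

/-- The map `R ⊗ F → R' ⊗ F`. -/
noncomputable def bc (F : Type u) [AddCommGroup F] [Module A₀ F] : R ⊗[A₀] F →ₗ[A₀] R' ⊗[A₀] F :=
  (IsScalarTower.toAlgHom A₀ R R').toLinearMap.rTensor F

theorem bc_tmul (r : R) (x : F) : bc R R' F (r ⊗ₜ[A₀] x) = algebraMap R R' r ⊗ₜ[A₀] x := by
  simp [bc]

theorem cancel_tmul (c : R') (z : R ⊗[A₀] F) :
    AlgebraTensorModule.cancelBaseChange A₀ R R' R' F (c ⊗ₜ[R] z) = c • bc R R' F z := by
  induction z with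
  | zero => simp
  | tmul r x =>
    rw [AlgebraTensorModule.cancelBaseChange_tmul, bc_tmul, smul_tmul', smul_eq_mul,
      Algebra.smul_def, mul_comm]
  | add a b ha hb => rw [tmul_add, map_add, map_add, smul_add, ha, hb]

theorem bc_smul (r : R) (z : R ⊗[A₀] F) : bc R R' F (r • z) = algebraMap R R' r • bc R R' F z := by
  induction z with
  | zero => simp
  | tmul a x => simp [bc_tmul, smul_tmul', Algebra.smul_def]
  | add a b ha hb => simp only [smul_add, map_add, ha, hb]

/-- The image of `R ⊗ F` in `R ⊗ N'`. -/
abbrev Piece : Type u := (R ⊗[A₀] F) ⧸ LinearMap.ker (ψ.baseChange R)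

/-- The image of `R ⊗ F`, base changed to `R'`, maps to `R' ⊗ N'`. -/
noncomputable def pieceMap : R' ⊗[R] Piece ψ R →ₗ[R'] R' ⊗[A₀] N' :=
  (AlgebraTensorModule.cancelBaseChange A₀ R R' R' N').toLinearMap ∘ₗ
    ((LinearMap.ker (ψ.baseChange R)).liftQ (ψ.baseChange R) le_rfl).baseChange R'

theorem pieceMap_mkQ (z : R' ⊗[R] (R ⊗[A₀] F)) :
    pieceMap ψ R R' ((LinearMap.ker (ψ.baseChange R)).mkQ.baseChange R' z) =
      ψ.baseChange R' (AlgebraTensorModule.cancelBaseChange A₀ R R' R' F z) := by
  induction z with
  | zero => simp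
  | tmul c y =>
    induction y with
    | zero => simp
    | tmul r x => simp [pieceMap]
    | add a b ha hb => simp only [tmul_add, map_add, ha, hb]
  | add a b ha hb => simp only [map_add, ha, hb]

theorem range_pieceMap : LinearMap.range (pieceMap ψ R R') = LinearMap.range (ψ.baseChange R') := by
  have hs : Function.Surjective ((LinearMap.ker (ψ.baseChange R)).mkQ.baseChange R') :=
    LinearMap.lTensor_surjective R' (Submodule.mkQ_surjective _)
  ext y
  constructor
  · rintro ⟨w, rfl⟩
    obtain ⟨z, rfl⟩ := hs w
    exact ⟨_, (pieceMap_mkQ ψ R R' z).symm⟩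
  · rintro ⟨x, rfl⟩
    obtain ⟨z, rfl⟩ := (AlgebraTensorModule.cancelBaseChange A₀ R R' R' F).surjective x
    exact ⟨_, pieceMap_mkQ ψ R R' z⟩

/-- With injectivity, flatness of the base changed image gives flatness of the image. -/
theorem flat_range_of_piece [Module.Flat R' (R' ⊗[R] Piece ψ R)]
    (h : Function.Injective (pieceMap ψ R R')) : Module.Flat R' (LinearMap.range (ψ.baseChange R')) := by
  rw [← range_pieceMap ψ R R']
  exact Module.Flat.of_linearEquiv (LinearEquiv.ofInjective _ h).symm

theorem flat_piece_of_range [Module.Flat R' (LinearMap.range (ψ.baseChange R'))]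
    (h : Function.Injective (pieceMap ψ R R')) : Module.Flat R' (R' ⊗[R] Piece ψ R) := by
  have : Module.Flat R' (LinearMap.range (pieceMap ψ R R')) := by rw [range_pieceMap]; infer_instance
  exact Module.Flat.of_linearEquiv (LinearEquiv.ofInjective _ h)

theorem pieceMap_injective_of_flat [Module.Flat R R'] : Function.Injective (pieceMap ψ R R') := by
  refine (AlgebraTensorModule.cancelBaseChange A₀ R R' R' N').injective.comp ?_
  refine Module.Flat.lTensor_preserves_injective_linearMap (M := R')
    ((LinearMap.ker (ψ.baseChange R)).liftQ (ψ.baseChange R) le_rfl) ?_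
  rw [← LinearMap.ker_eq_bot]
  exact Submodule.ker_liftQ_eq_bot _ _ le_rfl le_rfl

theorem pieceMap_injective_of_ker_le
    (h : ∀ x, ψ.baseChange R' x = 0 →
      x ∈ Submodule.span R' (bc R R' F '' (LinearMap.ker (ψ.baseChange R) : Set (R ⊗[A₀] F)))) :
    Function.Injective (pieceMap ψ R R') := by
  rw [injective_iff_map_eq_zero]
  intro w hw
  obtain ⟨z, rfl⟩ := LinearMap.lTensor_surjective R'
    (Submodule.mkQ_surjective (LinearMap.ker (ψ.baseChange R))) w
  have hz := h _ ((pieceMap_mkQ ψ R R' z).symm.trans hw)
  let e := AlgebraTensorModule.cancelBaseChange A₀ R R' R' F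
  have key : ∀ x ∈ Submodule.span R' (bc R R' F '' (LinearMap.ker (ψ.baseChange R) : Set (R ⊗[A₀] F))),
      (LinearMap.ker (ψ.baseChange R)).mkQ.baseChange R' (e.symm x) = 0 := by
    intro x hx
    induction hx using Submodule.span_induction with
    | mem x hx =>
      obtain ⟨l, hl, rfl⟩ := hx
      have : e.symm (bc R R' F l) = 1 ⊗ₜ l := by
        rw [LinearEquiv.symm_apply_eq, cancel_tmul, one_smul]
      rw [this, LinearMap.baseChange_tmul, Submodule.mkQ_apply, (Submodule.Quotient.mk_eq_zero _).2 hl,
        tmul_zero]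
    | zero => rw [map_zero, map_zero]
    | add a b _ _ ha hb => rw [map_add, map_add, ha, hb, add_zero]
    | smul c a _ ha => rw [map_smul, map_smul, ha, smul_zero]
  have := key _ hz
  rwa [e.symm_apply_apply] at this

variable {ψ π}

/-- If the cokernel over `R` is flat, the kernel over `R'` comes from the one over `R`. -/
theorem ker_le_span (hex : Function.Exact ψ π) (hπ : Function.Surjective π)
    [Module.Flat R (R ⊗[A₀] N)] (x : R' ⊗[A₀] F) (hx : ψ.baseChange R' x = 0) :
    x ∈ Submodule.span R' (bc R R' F '' (LinearMap.ker (ψ.baseChange R) : Set (R ⊗[A₀] F))) := by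
  have hex' : Function.Exact (ψ.baseChange R) (π.baseChange R) := lTensor_exact R hex hπ
  have hπ' : Function.Surjective (π.baseChange R) := LinearMap.lTensor_surjective R hπ
  have : Module.Flat R ((R ⊗[A₀] N') ⧸ LinearMap.range (ψ.baseChange R)) :=
    Module.Flat.of_linearEquiv (hex'.linearEquivOfSurjective hπ')
  obtain ⟨z, rfl⟩ := (AlgebraTensorModule.cancelBaseChange A₀ R R' R' F).surjective x
  have hz : (ψ.baseChange R).lTensor R' z = 0 := by
    refine (AlgebraTensorModule.cancelBaseChange A₀ R R' R' N').injective ?_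
    rw [map_zero, ← hx]
    clear hx
    induction z with
    | zero => simp
    | tmul c y =>
      induction y with
      | zero => simp
      | tmul r x => simp
      | add a b ha hb => simp only [tmul_add, map_add, ha, hb]
    | add a b ha hb => simp only [map_add, ha, hb]
  obtain ⟨w, rfl⟩ := (Syntomic.exact_lTensor_of_flat_coker (C₂ := LinearMap.ker (ψ.baseChange R))
    (LinearMap.ker (ψ.baseChange R)).subtype (ψ.baseChange R)
    (LinearMap.exact_subtype_ker_map (ψ.baseChange R)) R' z).1 hz
  clear hx hz
  induction w with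
  | zero => simp
  | tmul c l =>
    rw [LinearMap.lTensor_tmul, cancel_tmul]
    exact Submodule.smul_mem _ _ (Submodule.subset_span ⟨_, l.2, rfl⟩)
  | add a b ha hb => rw [map_add, map_add]; exact add_mem ha hb

end Piece

section Injective

variable {A₀ : Type u} [CommRing A₀] {F N' : Type u} [AddCommGroup F] [Module A₀ F]
  [AddCommGroup N'] [Module A₀ N'] (ψ : F →ₗ[A₀] N')

theorem pieceMap_injective_of_le {R R' A : Type u} [CommRing R] [Algebra A₀ R] [CommRing R']
    [Algebra A₀ R'] [Algebra R R'] [IsScalarTower A₀ R R'] [CommRing A] [Algebra A₀ A] [Algebra R A]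
    [IsScalarTower A₀ R A] [Algebra R' A] [IsScalarTower A₀ R' A] [IsScalarTower R R' A]
    (hRA : Function.Injective (algebraMap R' A)) [Module.Flat R' (R' ⊗[R] Piece ψ R)]
    (h : Function.Injective (pieceMap ψ R A)) : Function.Injective (pieceMap ψ R R') := by
  let φ := IsScalarTower.toAlgHom R R' A
  have hφ : Function.Injective (φ.toLinearMap.rTensor (Piece ψ R)) := by
    let e := AlgebraTensorModule.cancelBaseChange R R' A A (Piece ψ R)
    have h1 : Function.Injective ((Algebra.linearMap R' A).rTensor (R' ⊗[R] Piece ψ R)) :=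
      Module.Flat.rTensor_preserves_injective_linearMap _ hRA
    have h2 : ∀ w, φ.toLinearMap.rTensor (Piece ψ R) w =
        e ((Algebra.linearMap R' A).rTensor (R' ⊗[R] Piece ψ R) ((1 : R') ⊗ₜ w)) := by
      intro w
      induction w with
      | zero => simp
      | tmul c y =>
        simp [e, φ, Algebra.smul_def]
      | add a b ha hb => simp only [tmul_add, map_add, ha, hb]
    intro a b hab
    rw [h2, h2] at hab
    exact (TensorProduct.lid R' _).symm.injective (h1 (e.injective hab))
  have hcomm : ∀ w, bc R' A N' (pieceMap ψ R R' w) = pieceMap ψ R A (φ.toLinearMap.rTensor _ w) := by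
    intro w
    induction w with
    | zero => simp
    | tmul c y =>
      obtain ⟨y, rfl⟩ := Submodule.mkQ_surjective _ y
      simp only [LinearMap.rTensor_tmul, AlgHom.toLinearMap_apply]
      rw [← LinearMap.baseChange_tmul, ← LinearMap.baseChange_tmul, pieceMap_mkQ, pieceMap_mkQ,
        cancel_tmul, cancel_tmul, map_smul, bc_smul, map_smul]
      induction y with
      | zero => simp
      | tmul r x =>
        simp [bc_tmul, smul_tmul', φ, ← IsScalarTower.algebraMap_apply]
      | add a b ha hb => simp only [map_add, smul_add, ha, hb]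
    | add a b ha hb => simp only [map_add, ha, hb]
  rw [injective_iff_map_eq_zero]
  intro w hw
  refine hφ ?_
  refine h ?_
  rw [← hcomm, hw, map_zero, map_zero, map_zero]

end Injective

/-- If the image is flat, the kernel stays a submodule after tensoring. -/
theorem ker_lTensor_injective {A X Y : Type u} [CommRing A] [AddCommGroup X] [Module A X] [AddCommGroup Y]
    [Module A Y] (f : X →ₗ[A] Y) [Module.Flat A (LinearMap.range f)] (M : Type u) [AddCommGroup M]
    [Module A M] : Function.Injective ((LinearMap.ker f).subtype.lTensor M) :=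
  LinearMap.lTensor_injective_of_exact_of_flat f.rangeRestrict (LinearMap.surjective_rangeRestrict f) _
    Subtype.val_injective
    (fun z => (Subtype.ext_iff (a1 := f.rangeRestrict z) (a2 := 0)).trans (LinearMap.exact_subtype_ker_map f z)) M

/-- A finite module with vanishing fibres over the base vanishes. -/
theorem subsingleton_of_fibres {A T X : Type u} [CommRing A] [CommRing T] [Algebra A T]
    [AddCommGroup X] [Module A X] [Module T X] [IsScalarTower A T X] [Module.Finite T X]
    (h : ∀ q : PrimeSpectrum A, Subsingleton (q.asIdeal.ResidueField ⊗[A] X)) : Subsingleton X := by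
  rw [← Module.support_eq_empty_iff (R := T), Set.eq_empty_iff_forall_notMem]
  intro P hP
  rw [Module.mem_support_iff_nontrivial_residueField_tensorProduct] at hP
  refine not_subsingleton (P.asIdeal.ResidueField ⊗[T] X) ?_
  let q : PrimeSpectrum A := PrimeSpectrum.comap (algebraMap A T) P
  have := h q
  let : Algebra q.asIdeal.ResidueField P.asIdeal.ResidueField :=
    (Ideal.ResidueField.map q.asIdeal P.asIdeal (algebraMap A T) rfl).toAlgebra
  have : IsScalarTower A q.asIdeal.ResidueField P.asIdeal.ResidueField :=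
    IsScalarTower.of_algebraMap_eq fun a => by
      show _ = Ideal.ResidueField.map q.asIdeal P.asIdeal (algebraMap A T) rfl _
      erw [Ideal.ResidueField.map_algebraMap]
      exact IsScalarTower.algebraMap_apply A T P.asIdeal.ResidueField a
  have h1 : Subsingleton (P.asIdeal.ResidueField ⊗[A] X) :=
    (AlgebraTensorModule.cancelBaseChange A q.asIdeal.ResidueField P.asIdeal.ResidueField
      P.asIdeal.ResidueField X).toEquiv.subsingleton_congr.mp inferInstance
  let f : P.asIdeal.ResidueField ⊗[A] X →+ P.asIdeal.ResidueField ⊗[T] X :=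
    TensorProduct.liftAddHom
      (AddMonoidHom.mk' (fun c => AddMonoidHom.mk' (fun x => c ⊗ₜ[T] x) (tmul_add c))
        fun c d => AddMonoidHom.ext fun x => add_tmul c d x)
      fun a c x => by
        show (a • c) ⊗ₜ[T] x = c ⊗ₜ[T] (a • x)
        rw [← algebraMap_smul T a c, ← algebraMap_smul T a x, smul_tmul]
  have hf : Function.Surjective f := fun z => by
    induction z with
    | zero => exact ⟨0, map_zero f⟩
    | tmul c x => exact ⟨c ⊗ₜ x, rfl⟩
    | add a b ha hb =>
      obtain ⟨a, rfl⟩ := ha
      obtain ⟨b, rfl⟩ := hb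
      exact ⟨a + b, map_add f a b⟩
  exact hf.subsingleton

end Groth.Ega43Gr
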