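import Groth.Agent.Ega43Gr.Total
import Groth.Agent.GenericFree.Presentation
import Groth.Agent.FlatMorOne.FlatLocusNoeth

/-! A uniform bound on the degrees generating the kernels over fields. -/

set_option autoImplicit false

universe u

open TensorProduct Groth.FlatMorOne

namespace Groth.Ega43Gr

attribute [local instance] Algebra.TensorProduct.rightAlgebra

variable (A₀ : Type u) [CommRing A₀] {B₀ : Type u} [CommRing B₀] [Algebra A₀ B₀] (J : Ideal B₀)
  (M₀ : Type u) [AddCommGroup M₀] [Module B₀ M₀] [Module A₀ M₀] [IsScalarTower A₀ B₀ M₀]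

/-- All truncations are flat over `R`. -/
def AllFlat (R : Type u) [CommRing R] [Algebra A₀ R] : Prop :=
  ∀ k, Module.Flat R (R ⊗[A₀] Quo A₀ J M₀ k)

variable {R : Type u} [CommRing R] [Algebra A₀ R]

theorem flat_range_of_flat (k : ℕ) [Module.Flat R (R ⊗[A₀] Quo A₀ J M₀ (k + 1))]
    [Module.Flat R (R ⊗[A₀] Quo A₀ J M₀ k)] :
    Module.Flat R (LinearMap.range ((psi A₀ J M₀ k).baseChange R)) := by
  have hex : Function.Exact ((psi A₀ J M₀ k).baseChange R) ((proj A₀ J M₀ k).baseChange R) :=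
    lTensor_exact R (exact_psi_proj A₀ J M₀ k) (proj_surjective A₀ J M₀ k)
  rw [← hex.linearMap_ker_eq]
  exact Syntomic.flat_ker _ (LinearMap.lTensor_surjective R (proj_surjective A₀ J M₀ k))

theorem allFlat_of_range (h : ∀ k, Module.Flat R (LinearMap.range ((psi A₀ J M₀ k).baseChange R))) :
    AllFlat A₀ J M₀ R := by
  intro k
  induction k with
  | zero =>
    have := subsingleton_quo_zero A₀ J M₀
    infer_instance
  | succ k ih =>
    have hex : Function.Exact ((psi A₀ J M₀ k).baseChange R) ((proj A₀ J M₀ k).baseChange R) :=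
      lTensor_exact R (exact_psi_proj A₀ J M₀ k) (proj_surjective A₀ J M₀ k)
    have := h k
    exact Calg6.flat_of_extension (M₁ := LinearMap.range ((psi A₀ J M₀ k).baseChange R))
      (LinearMap.range ((psi A₀ J M₀ k).baseChange R)).subtype
      ((proj A₀ J M₀ k).baseChange R) Subtype.val_injective
      (by rw [LinearMap.exact_iff, Submodule.range_subtype, hex.linearMap_ker_eq])
      (LinearMap.lTensor_surjective R (proj_surjective A₀ J M₀ k))

theorem kerDeg_le_span {R' : Type u} [CommRing R'] [Algebra A₀ R'] (φ : R →ₐ[A₀] R') (k : ℕ)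
    [Module.Flat R (R ⊗[A₀] Quo A₀ J M₀ k)] {z : R' ⊗[A₀] ↥(Fil A₀ J M₀ k)}
    (hz : z ∈ kerDeg A₀ J M₀ R' k) :
    z ∈ Submodule.span R' (φ.toLinearMap.rTensor _ '' (kerDeg A₀ J M₀ R k : Set _)) := by
  let : Algebra R R' := φ.toRingHom.toAlgebra
  have : IsScalarTower A₀ R R' := IsScalarTower.of_algebraMap_eq fun a => (φ.commutes a).symm
  have heq : IsScalarTower.toAlgHom A₀ R R' = φ := AlgHom.ext fun _ => rfl
  have h := ker_le_span R R' (exact_psi_proj A₀ J M₀ k) (proj_surjective A₀ J M₀ k) z hz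
  simp only [bc, heq] at h
  exact h

theorem incR_mem_span {R' : Type u} [CommRing R'] [Algebra A₀ R'] (φ : R →ₐ[A₀] R') (j : ℕ)
    {z : R' ⊗[A₀] ↥(Fil A₀ J M₀ j)}
    (hz : z ∈ Submodule.span R' (φ.toLinearMap.rTensor _ '' (kerDeg A₀ J M₀ R j : Set _)))
    (P : Submodule (SR A₀ J R') (VR A₀ J M₀ R'))
    (hP : ∀ y ∈ kerDeg A₀ J M₀ R j, vMap A₀ J M₀ φ (incR A₀ J M₀ R j y) ∈ P) :
    incR A₀ J M₀ R' j z ∈ P := by
  induction hz using Submodule.span_induction with
  | mem x hx =>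
    obtain ⟨y, hy, rfl⟩ := hx
    rw [← vMap_incR]
    exact hP y hy
  | zero => rw [map_zero]; exact zero_mem _
  | add a b _ _ ha hb => rw [map_add]; exact add_mem ha hb
  | smul r a _ ha => rw [map_smul, ← algebraMap_smul (SR A₀ J R') r]; exact P.smul_mem _ ha

theorem kerR_le_genR_of_map {R' : Type u} [CommRing R'] [Algebra A₀ R'] (φ : R →ₐ[A₀] R') {d : ℕ}
    (hR : AllFlat A₀ J M₀ R) (hd : kerR A₀ J M₀ R ≤ genR A₀ J M₀ R d) :
    kerR A₀ J M₀ R' ≤ genR A₀ J M₀ R' d := by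
  intro w hw
  obtain ⟨N, hN⟩ := exists_sum_incR_coefR A₀ J M₀ R' w
  rw [← hN N le_rfl]
  refine Submodule.sum_mem _ fun k _ => ?_
  have := hR k
  exact incR_mem_span A₀ J M₀ φ k (kerDeg_le_span A₀ J M₀ φ k ((mem_kerR_iff A₀ J M₀ R' w).1 hw k)) _
    fun y hy => vMap_mem_genR A₀ J M₀ φ (hd (incR_mem_kerR A₀ J M₀ R hy))

variable (R)

/-- The image in degree `k` into the quotient of the Rees module. -/
noncomputable def pieceInc (k : ℕ) :
    Piece (psi A₀ J M₀ k) R →ₗ[R] VR A₀ J M₀ R ⧸ kerR A₀ J M₀ R :=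
  (LinearMap.ker ((psi A₀ J M₀ k).baseChange R)).liftQ
    ((kerR A₀ J M₀ R).mkQ.restrictScalars R ∘ₗ incR A₀ J M₀ R k)
    fun _ hz => (Submodule.Quotient.mk_eq_zero _).2 (incR_mem_kerR A₀ J M₀ R hz)

/-- The degree `k` part of the quotient of the Rees module. -/
noncomputable def pieceCoef (k : ℕ) :
    (VR A₀ J M₀ R ⧸ kerR A₀ J M₀ R) →ₗ[R] Piece (psi A₀ J M₀ k) R :=
  (((kerR A₀ J M₀ R).restrictScalars R).liftQ
    ((LinearMap.ker ((psi A₀ J M₀ k).baseChange R)).mkQ ∘ₗ coefR A₀ J M₀ R k)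
    fun w hw => (Submodule.Quotient.mk_eq_zero _).2 ((mem_kerR_iff A₀ J M₀ R w).1 hw k)) ∘ₗ
  (Submodule.Quotient.restrictScalarsEquiv R (kerR A₀ J M₀ R)).symm.toLinearMap

theorem pieceCoef_pieceInc_self (k : ℕ) :
    pieceCoef A₀ J M₀ R k ∘ₗ pieceInc A₀ J M₀ R k = LinearMap.id := by
  ext x
  show pieceCoef A₀ J M₀ R k (pieceInc A₀ J M₀ R k (Submodule.Quotient.mk ((1 : R) ⊗ₜ x))) = _
  exact congrArg (Submodule.Quotient.mk) (coefR_incR_self A₀ J M₀ R k ((1 : R) ⊗ₜ x))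

theorem flat_tensor_piece (R' : Type u) [CommRing R'] [Algebra R R']
    [Module.Flat R' (R' ⊗[R] (VR A₀ J M₀ R ⧸ kerR A₀ J M₀ R))] (k : ℕ) :
    Module.Flat R' (R' ⊗[R] Piece (psi A₀ J M₀ k) R) :=
  Module.Flat.of_retract ((pieceInc A₀ J M₀ R k).baseChange R') ((pieceCoef A₀ J M₀ R k).baseChange R')
    (by rw [← LinearMap.baseChange_comp, pieceCoef_pieceInc_self, LinearMap.baseChange_id])

variable [IsNoetherianRing A₀] [Algebra.FiniteType A₀ B₀] [Module.Finite B₀ M₀]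

theorem exists_kerR_le_genR [IsNoetherianRing R] :
    ∃ d, kerR A₀ J M₀ R ≤ genR A₀ J M₀ R d := by
  classical
  have := finite_rees A₀ J M₀
  have := finiteType_reesAlgebra A₀ J
  have : Algebra.FiniteType R (SR A₀ J R) := inferInstance
  have : IsNoetherianRing (SR A₀ J R) := Algebra.FiniteType.isNoetherianRing R _
  obtain ⟨s, hs⟩ : (kerR A₀ J M₀ R).FG := IsNoetherian.noetherian _
  choose N hN using exists_sum_incR_coefR A₀ J M₀ R
  refine ⟨s.sup N, ?_⟩
  conv_lhs => rw [← hs]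
  rw [Submodule.span_le]
  intro w hw
  rw [SetLike.mem_coe, ← hN w _ le_rfl]
  refine Submodule.sum_mem _ fun k hk => Submodule.subset_span ?_
  simp only [Set.mem_iUnion, Set.mem_image]
  exact ⟨k, ((Finset.mem_range.1 hk).le).trans (Finset.le_sup hw), _,
    (mem_kerR_iff A₀ J M₀ R w).1 (hs ▸ Submodule.subset_span hw) k, rfl⟩

set_option maxHeartbeats 1000000 in
theorem exists_stratum (p : Ideal A₀) [p.IsPrime] :
    ∃ f : A₀, f ∉ p ∧ AllFlat A₀ J M₀ (Localization.Away (Ideal.Quotient.mk p f)) := by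
  have := finite_rees A₀ J M₀
  have := finiteType_reesAlgebra A₀ J
  let R := A₀ ⧸ p
  have : Algebra.FiniteType R (SR A₀ J R) := inferInstance
  obtain ⟨fb, hfb, hfree, -⟩ := (Groth.GenericFree.gf_of_finiteType (R := R) (SR A₀ J R)
    (VR A₀ J M₀ R ⧸ kerR A₀ J M₀ R)).exists_free
  obtain ⟨f, rfl⟩ := Ideal.Quotient.mk_surjective fb
  refine ⟨f, fun hf => hfb (Ideal.Quotient.eq_zero_iff_mem.mpr hf), allFlat_of_range A₀ J M₀ fun k => ?_⟩
  let Rf := Localization.Away (Ideal.Quotient.mk p f)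
  have : Module.Free Rf (LocalizedModule (Submonoid.powers (Ideal.Quotient.mk p f))
      (VR A₀ J M₀ R ⧸ kerR A₀ J M₀ R)) := hfree _ hfb dvd_rfl
  have : Module.Flat Rf (Rf ⊗[R] (VR A₀ J M₀ R ⧸ kerR A₀ J M₀ R)) :=
    Module.Flat.of_linearEquiv (LocalizedModule.equivTensorProduct _ _).symm
  have := flat_tensor_piece A₀ J M₀ R Rf k
  have : Module.Flat R Rf := IsLocalization.flat Rf (Submonoid.powers (Ideal.Quotient.mk p f))
  exact flat_range_of_piece (psi A₀ J M₀ k) R Rf (pieceMap_injective_of_flat (psi A₀ J M₀ k) R Rf)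

/-- One bound for all fields. -/
theorem exists_bound : ∃ d : ℕ, ∀ (κ : Type u) [Field κ] [Algebra A₀ κ],
    kerR A₀ J M₀ κ ≤ genR A₀ J M₀ κ d := by
  classical
  suffices h : ∀ I : Ideal A₀, ∃ d : ℕ, ∀ (κ : Type u) [Field κ] [Algebra A₀ κ],
      I ≤ RingHom.ker (algebraMap A₀ κ) → kerR A₀ J M₀ κ ≤ genR A₀ J M₀ κ d by
    obtain ⟨d, hd⟩ := h ⊥
    exact ⟨d, fun κ _ _ => hd κ bot_le⟩
  intro I
  induction I using WellFoundedGT.induction with
  | _ I ih =>
    by_cases hI : I.IsPrime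
    · obtain ⟨f, hf, hflat⟩ := exists_stratum A₀ J M₀ I
      have : IsNoetherianRing (Localization.Away (Ideal.Quotient.mk I f)) :=
        IsLocalization.isNoetherianRing (Submonoid.powers (Ideal.Quotient.mk I f)) _ inferInstance
      obtain ⟨d₁, hd₁⟩ := exists_kerR_le_genR A₀ J M₀ (Localization.Away (Ideal.Quotient.mk I f))
      obtain ⟨d₂, hd₂⟩ := ih (I ⊔ Ideal.span {f}) (left_lt_sup.2 fun h =>
        hf (h (Ideal.mem_span_singleton_self f)))
      refine ⟨max d₁ d₂, fun κ _ _ hκ => ?_⟩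
      by_cases hfκ : algebraMap A₀ κ f = 0
      · refine (hd₂ κ (sup_le hκ ?_)).trans (genR_mono A₀ J M₀ κ (le_max_right _ _))
        rw [Ideal.span_singleton_le_iff_mem]
        exact RingHom.mem_ker.2 hfκ
      · let g : (A₀ ⧸ I) →ₐ[A₀] κ := Ideal.Quotient.liftₐ I (Algebra.ofId A₀ κ)
          fun a ha => RingHom.mem_ker.1 (hκ ha)
        let φ : Localization.Away (Ideal.Quotient.mk I f) →ₐ[A₀] κ :=
          IsLocalization.liftAlgHom (M := Submonoid.powers (Ideal.Quotient.mk I f)) (f := g) fun y => by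
            obtain ⟨n, hn⟩ := y.2
            rw [← hn, map_pow]
            exact ((Ne.isUnit hfκ : IsUnit (algebraMap A₀ κ f))).pow n
        exact (kerR_le_genR_of_map A₀ J M₀ φ hflat hd₁).trans (genR_mono A₀ J M₀ κ (le_max_left _ _))
    · have hfin := Ideal.finite_minimalPrimes_of_isNoetherianRing A₀ I
      have hgt : ∀ p ∈ I.minimalPrimes, I < p := fun p hp =>
        lt_of_le_of_ne hp.1.2 fun h => hI (h ▸ hp.1.1)
      choose! d hd using fun p hp => ih p (hgt p hp)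
      refine ⟨hfin.toFinset.sup d, fun κ _ _ hκ => ?_⟩
      have : (RingHom.ker (algebraMap A₀ κ)).IsPrime := RingHom.ker_isPrime _
      obtain ⟨p, hp, hle⟩ := Ideal.exists_minimalPrimes_le (J := RingHom.ker (algebraMap A₀ κ)) hκ
      exact (hd p hp κ hle).trans (genR_mono A₀ J M₀ κ (Finset.le_sup (hfin.mem_toFinset.2 hp)))

end Groth.Ega43Gr
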