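import Groth.Agent.Ega43Gr.Bound
import Groth.Agent.FlatMorOne.FlatLocusOpen

/-! Flatness of all truncations descends to a finitely generated stage. -/

set_option autoImplicit false

universe u

open TensorProduct Groth.FlatMorOne

namespace Groth.Ega43Gr

attribute [local instance] Algebra.TensorProduct.rightAlgebra

variable (A₀ : Type u) [CommRing A₀] {B₀ : Type u} [CommRing B₀] [Algebra A₀ B₀] (J : Ideal B₀)
  (M₀ : Type u) [AddCommGroup M₀] [Module B₀ M₀] [Module A₀ M₀] [IsScalarTower A₀ B₀ M₀]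

theorem AllFlat.of_algHom {R R' : Type u} [CommRing R] [Algebra A₀ R] [CommRing R'] [Algebra A₀ R']
    (φ : R →ₐ[A₀] R') (h : AllFlat A₀ J M₀ R) : AllFlat A₀ J M₀ R' := by
  let : Algebra R R' := φ.toRingHom.toAlgebra
  have : IsScalarTower A₀ R R' := IsScalarTower.of_algebraMap_eq fun a => (φ.commutes a).symm
  intro k
  have := h k
  exact Module.Flat.of_linearEquiv
    (AlgebraTensorModule.cancelBaseChange A₀ R R' R' (Quo A₀ J M₀ k)).symm

/-- A finite module over a finite type algebra over a Noetherian ring which becomes flat after a base change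
is already flat after a finitely generated one. -/
theorem exists_stage_flat_module (R : Type u) [CommRing R] [IsNoetherianRing R] (S : Type u) [CommRing S]
    [Algebra R S] [Algebra.FiniteType R S] (E : Type u) [AddCommGroup E] [Module R E] [Module S E]
    [IsScalarTower R S E] [Module.Finite S E] (A : Type u) [CommRing A] [Algebra R A]
    [Module.Flat A (A ⊗[R] E)] :
    ∃ A' : Subalgebra R A, A'.FG ∧ ∀ B : Subalgebra R A, B.FG → A' ≤ B → Module.Flat B (B ⊗[R] E) := by
  have : Module.Flat A (MOf R S E A) :=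
    Module.Flat.of_linearEquiv (isBaseChange_betaOf R S E A).equiv.symm
  have : Algebra.IsPushout R A S (SOf R S A) := TensorProduct.isPushout
  obtain ⟨A', hA', h⟩ := exists_stage_flat_global (R₀ := R) (R := A) (S := SOf R S A)
    (TensorProduct.isBaseChange S E (SOf R S A))
  refine ⟨A', hA', fun B hB hle => ?_⟩
  have := h B hB hle
  exact Module.Flat.of_linearEquiv (isBaseChange_betaOf R S E B).equiv

/-- The quotient of the Rees module is the sum of its pieces. -/
noncomputable def sumPieces (R : Type u) [CommRing R] [Algebra A₀ R] :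
    (DirectSum ℕ fun k => Piece (psi A₀ J M₀ k) R) →ₗ[R] VR A₀ J M₀ R ⧸ kerR A₀ J M₀ R :=
  DirectSum.toModule R ℕ _ fun k => pieceInc A₀ J M₀ R k

theorem bijective_sumPieces (R : Type u) [CommRing R] [Algebra A₀ R] :
    Function.Bijective (sumPieces A₀ J M₀ R) := by
  classical
  constructor
  · intro x x' hxx'
    ext k
    have h : ∀ j (y : Piece (psi A₀ J M₀ j) R), j ≠ k →
        pieceCoef A₀ J M₀ R k (pieceInc A₀ J M₀ R j y) = 0 := by
      intro j y hj
      obtain ⟨y, rfl⟩ := Submodule.mkQ_surjective _ y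
      exact (congrArg Submodule.Quotient.mk (coefR_incR_of_ne A₀ J M₀ R hj y)).trans rfl
    have key : ∀ z, pieceCoef A₀ J M₀ R k (sumPieces A₀ J M₀ R z) = z k := by
      intro z
      induction z using DirectSum.induction_on with
      | zero => simp
      | of j y =>
        rw [sumPieces, ← DirectSum.lof_eq_of R, DirectSum.toModule_lof]
        by_cases hj : j = k
        · subst hj
          rw [DirectSum.lof_apply]
          exact LinearMap.congr_fun (pieceCoef_pieceInc_self A₀ J M₀ R j) y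
        · rw [h j y hj, DirectSum.lof_eq_of R, DirectSum.of_eq_of_ne _ _ _ (Ne.symm hj)]
      | add a b ha hb => simp only [map_add, ha, hb, DirectSum.add_apply]
    rw [← key, ← key, hxx']
  · intro e
    obtain ⟨w, rfl⟩ := Submodule.mkQ_surjective _ e
    obtain ⟨N, hN⟩ := exists_sum_incR_coefR A₀ J M₀ R w
    refine ⟨∑ k ∈ Finset.range N,
      DirectSum.lof R ℕ (fun k => Piece (psi A₀ J M₀ k) R) k (Submodule.Quotient.mk (coefR A₀ J M₀ R k w)), ?_⟩
    conv_rhs => rw [← hN N le_rfl, map_sum]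
    simp only [sumPieces, map_sum, DirectSum.toModule_lof]
    rfl

theorem flat_sum (R : Type u) [CommRing R] [Algebra A₀ R] (A : Type u) [CommRing A] [Algebra R A]
    (h : ∀ k, Module.Flat A (A ⊗[R] Piece (psi A₀ J M₀ k) R)) :
    Module.Flat A (A ⊗[R] (VR A₀ J M₀ R ⧸ kerR A₀ J M₀ R)) := by
  classical
  have : Module.Flat A (DirectSum ℕ fun k => A ⊗[R] Piece (psi A₀ J M₀ k) R) := inferInstance
  exact Module.Flat.of_linearEquiv <|
    (AlgebraTensorModule.congr (LinearEquiv.refl A A)
      (LinearEquiv.ofBijective _ (bijective_sumPieces A₀ J M₀ R)).symm).trans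
    (TensorProduct.directSumRight R A A fun k => Piece (psi A₀ J M₀ k) R)

variable [IsNoetherianRing A₀] [Algebra.FiniteType A₀ B₀] [Module.Finite B₀ M₀]

set_option maxHeartbeats 1000000 in
/-- One truncation. -/
theorem exists_stage_quo (A : Type u) [CommRing A] [Algebra A₀ A] (k : ℕ)
    [Module.Flat A (A ⊗[A₀] Quo A₀ J M₀ k)] :
    ∃ R : Subalgebra A₀ A, R.FG ∧ ∀ B : Subalgebra A₀ A, B.FG → R ≤ B →
      Module.Flat B (B ⊗[A₀] Quo A₀ J M₀ k) := by
  let N := M₀ ⧸ (J ^ k • (⊤ : Submodule B₀ M₀))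
  let e : Quo A₀ J M₀ k ≃ₗ[A₀] N := Submodule.Quotient.restrictScalarsEquiv A₀ _
  have hiff : ∀ (C : Type u) [CommRing C] [Algebra A₀ C],
      Module.Flat C (C ⊗[A₀] Quo A₀ J M₀ k) ↔ Module.Flat C (C ⊗[A₀] N) := fun C _ _ =>
    Module.Flat.equiv_iff (AlgebraTensorModule.congr (LinearEquiv.refl C C) e)
  have : Module.Flat A (A ⊗[A₀] N) := (hiff A).1 inferInstance
  obtain ⟨R, hR, h⟩ := exists_stage_flat_module A₀ B₀ N A
  exact ⟨R, hR, fun B hB hle => (hiff B).2 (h B hB hle)⟩

set_option maxHeartbeats 4000000 in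
set_option synthInstance.maxHeartbeats 400000 in
/-- The kernel in each degree comes from a stage on which low degrees are flat. -/
theorem kerDeg_le_span_of_bound (A : Type u) [CommRing A] [Algebra A₀ A] (hA : AllFlat A₀ J M₀ A)
    (d : ℕ) (hd : ∀ (κ : Type u) [Field κ] [Algebra A₀ κ], kerR A₀ J M₀ κ ≤ genR A₀ J M₀ κ d)
    (R : Subalgebra A₀ A) (hR : R.FG)
    (hlow : ∀ j ≤ d, Module.Flat R (R ⊗[A₀] Quo A₀ J M₀ j)) (k : ℕ)
    {z : A ⊗[A₀] ↥(Fil A₀ J M₀ k)} (hz : z ∈ kerDeg A₀ J M₀ A k) :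
    z ∈ Submodule.span A (R.val.toLinearMap.rTensor _ '' (kerDeg A₀ J M₀ R k : Set _)) := by
  classical
  have := finite_rees A₀ J M₀
  have := finiteType_reesAlgebra A₀ J
  let K' : Submodule (SR A₀ J A) (VR A₀ J M₀ A) :=
    Submodule.span _ (vMap A₀ J M₀ R.val '' (kerR A₀ J M₀ R : Set _))
  suffices h : incR A₀ J M₀ A k z ∈ K' by
    have := coefR_mem_span A₀ J M₀ R.val k h
    rwa [coefR_incR_self] at this
  -- fibres
  have hfield : ∀ (κ : Type u) [Field κ] [Algebra A₀ κ] (χ : R →ₐ[A₀] κ)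
      {y : κ ⊗[A₀] ↥(Fil A₀ J M₀ k)}, y ∈ kerDeg A₀ J M₀ κ k →
      y ∈ Submodule.span κ (χ.toLinearMap.rTensor _ '' (kerDeg A₀ J M₀ R k : Set _)) := by
    intro κ _ _ χ y hy
    have h1 : genR A₀ J M₀ κ d ≤
        Submodule.span (SR A₀ J κ) (vMap A₀ J M₀ χ '' (kerR A₀ J M₀ R : Set _)) := by
      rw [genR, Submodule.span_le]
      intro w hw
      simp only [Set.mem_iUnion, Set.mem_image] at hw
      obtain ⟨j, hj, v, hv, rfl⟩ := hw
      have := hlow j hj
      exact incR_mem_span A₀ J M₀ χ j (kerDeg_le_span A₀ J M₀ χ j hv) _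
        fun l hl => Submodule.subset_span ⟨_, incR_mem_kerR A₀ J M₀ R hl, rfl⟩
    have := coefR_mem_span A₀ J M₀ χ k (h1 (hd κ (incR_mem_kerR A₀ J M₀ κ hy)))
    rwa [coefR_incR_self] at this
  -- finiteness from a stage
  have := hA k
  obtain ⟨Rk, hRk, hRkflat⟩ := exists_stage_quo A₀ J M₀ A k
  let B := Rk ⊔ R
  have hB : B.FG := hRk.sup hR
  have : Module.Flat B (B ⊗[A₀] Quo A₀ J M₀ k) := hRkflat B hB le_sup_left
  have : IsNoetherianRing B := isNoetherianRing_of_fg hB
  have : Algebra.FiniteType B (SR A₀ J B) := inferInstance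
  have : IsNoetherianRing (SR A₀ J B) := Algebra.FiniteType.isNoetherianRing B _
  have : IsNoetherian (SR A₀ J B) (VR A₀ J M₀ B) := inferInstance
  obtain ⟨t, ht, hspan⟩ := (Submodule.fg_span_iff_fg_span_finset_subset _).1
    (IsNoetherian.noetherian (Submodule.span (SR A₀ J B) (incR A₀ J M₀ B k '' (kerDeg A₀ J M₀ B k : Set _))))
  let P : Submodule (SR A₀ J A) (VR A₀ J M₀ A) :=
    Submodule.span _ (incR A₀ J M₀ A k '' (kerDeg A₀ J M₀ A k : Set _))
  have hPfg : P.FG := by
    refine ⟨t.image (vMap A₀ J M₀ B.val), le_antisymm ?_ ?_⟩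
    · rw [Submodule.span_le, Finset.coe_image]
      rintro _ ⟨w, hw, rfl⟩
      obtain ⟨y, hy, rfl⟩ := ht hw
      rw [vMap_incR]
      exact Submodule.subset_span ⟨_, rTensor_mem_kerDeg A₀ J M₀ B.val hy, rfl⟩
    · rw [Submodule.span_le]
      rintro _ ⟨y, hy, rfl⟩
      refine incR_mem_span A₀ J M₀ B.val k (kerDeg_le_span A₀ J M₀ B.val k hy) _ fun l hl => ?_
      have hm : incR A₀ J M₀ B k l ∈ Submodule.span (SR A₀ J B) (t : Set _) :=
        hspan ▸ Submodule.subset_span ⟨l, hl, rfl⟩
      generalize incR A₀ J M₀ B k l = w at hm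
      induction hm using Submodule.span_induction with
      | mem x hx => exact Submodule.subset_span (Finset.mem_coe.2 (Finset.mem_image_of_mem _ hx))
      | zero => rw [map_zero]; exact zero_mem _
      | add a b _ _ ha hb => rw [map_add]; exact add_mem ha hb
      | smul s a _ ha =>
        rw [show vMap A₀ J M₀ B.val (s • a) = sMap A₀ _ B.val s • vMap A₀ J M₀ B.val a from
          mMap_smul A₀ _ _ B.val s a]
        exact Submodule.smul_mem _ _ ha
  let X : Submodule (SR A₀ J A) (VR A₀ J M₀ A ⧸ K') := P.map K'.mkQ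
  have : Module.Finite (SR A₀ J A) X := Module.Finite.iff_fg.2 (hPfg.map _)
  let Λ : kerDeg A₀ J M₀ A k →ₗ[A] X :=
    { toFun := fun y => ⟨K'.mkQ (incR A₀ J M₀ A k y.1),
        Submodule.mem_map_of_mem (Submodule.subset_span ⟨y.1, y.2, rfl⟩)⟩
      map_add' := fun a b => Subtype.ext (by simp)
      map_smul' := fun a b => Subtype.ext (by simp) }
  have hΛspan : ∀ x : X, x ∈ Submodule.span (SR A₀ J A) (Set.range Λ) := by
    rintro ⟨x, hx⟩
    obtain ⟨w, hw, rfl⟩ := hx
    induction hw using Submodule.span_induction with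
    | mem w hw =>
      obtain ⟨y, hy, rfl⟩ := hw
      exact Submodule.subset_span ⟨⟨y, hy⟩, rfl⟩
    | zero => simp only [map_zero]; exact zero_mem _
    | add a b _ _ ha hb => simp only [map_add]; exact add_mem ha hb
    | smul s a _ ha => simp only [map_smul]; exact Submodule.smul_mem _ s ha
  have hX : Subsingleton X := by
    refine subsingleton_of_fibres (A := A) (T := SR A₀ J A) fun q => ?_
    let κ := q.asIdeal.ResidueField
    let χ : A →ₐ[A₀] κ := IsScalarTower.toAlgHom A₀ A κ
    have := hA (k + 1)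
    have : Module.Flat A (LinearMap.range ((psi A₀ J M₀ k).baseChange A)) :=
      flat_range_of_flat A₀ J M₀ k
    let e := AlgebraTensorModule.cancelBaseChange A₀ A κ κ ↥(Fil A₀ J M₀ k)
    let j : κ ⊗[A] kerDeg A₀ J M₀ A k →ₗ[κ] κ ⊗[A₀] ↥(Fil A₀ J M₀ k) :=
      e.toLinearMap ∘ₗ (kerDeg A₀ J M₀ A k).subtype.baseChange κ
    have hlt : Function.Injective ((kerDeg A₀ J M₀ A k).subtype.lTensor κ) :=
      ker_lTensor_injective ((psi A₀ J M₀ k).baseChange A) κ
    have hjinj : Function.Injective j := e.injective.comp hlt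
    have hj : ∀ y, j ((1 : κ) ⊗ₜ y) = χ.toLinearMap.rTensor _ y.1 := fun y => by
      show e ((1 : κ) ⊗ₜ[A] y.1) = _
      rw [cancel_tmul, one_smul]
      rfl
    have hu : ∀ u : kerDeg A₀ J M₀ A k, (Λ.baseChange κ) ((1 : κ) ⊗ₜ u) = 0 := by
      intro u
      have hmem : j ((1 : κ) ⊗ₜ u) ∈ Submodule.map j (Submodule.span κ
          ((fun l : kerDeg A₀ J M₀ A k => (1 : κ) ⊗ₜ[A] l) ''
            {l | ∃ y ∈ kerDeg A₀ J M₀ R k, R.val.toLinearMap.rTensor _ y = l.1})) := by
        rw [Submodule.map_span, hj]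
        refine Submodule.span_mono ?_ (hfield κ (χ.comp R.val) (rTensor_mem_kerDeg A₀ J M₀ χ u.2))
        rintro _ ⟨y, hy, rfl⟩
        refine ⟨_, ⟨⟨_, rTensor_mem_kerDeg A₀ J M₀ R.val hy⟩, ⟨y, hy, rfl⟩, rfl⟩, ?_⟩
        rw [hj]
        show χ.toLinearMap.rTensor _ (R.val.toLinearMap.rTensor _ y) = _
        rw [← LinearMap.rTensor_comp_apply]
        rfl
      obtain ⟨w, hw, hwu⟩ := hmem
      rw [← hjinj hwu]
      clear hwu
      induction hw using Submodule.span_induction with
      | mem x hx =>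
        obtain ⟨l, ⟨y, hy, hyl⟩, rfl⟩ := hx
        have : Λ l = 0 := Subtype.ext (by
          show K'.mkQ (incR A₀ J M₀ A k l.1) = 0
          rw [← hyl, ← vMap_incR]
          exact (Submodule.Quotient.mk_eq_zero _).2
            (Submodule.subset_span ⟨_, incR_mem_kerR A₀ J M₀ R hy, rfl⟩))
        rw [LinearMap.baseChange_tmul, this, tmul_zero]
      | zero => rw [map_zero]
      | add a b _ _ ha hb => rw [map_add, ha, hb, add_zero]
      | smul c a _ ha => rw [map_smul, ha, smul_zero]
    have hone : ∀ x : X, (1 : κ) ⊗ₜ[A] x = 0 := by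
      intro x
      induction hΛspan x using Submodule.span_induction with
      | mem x hx =>
        obtain ⟨u, rfl⟩ := hx
        simpa using hu u
      | zero => rw [tmul_zero]
      | add a b _ _ ha hb => rw [tmul_add, ha, hb, add_zero]
      | smul s a _ ha =>
        have := congrArg ((DistribSMul.toLinearMap A X s).lTensor κ) ha
        rw [LinearMap.lTensor_tmul, map_zero] at this
        exact this
    refine ⟨fun a b => ?_⟩
    have : ∀ w : κ ⊗[A] X, w = 0 := fun w => by
      induction w with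
      | zero => rfl
      | tmul c x => rw [← mul_one c, ← smul_eq_mul, ← smul_tmul', hone, smul_zero]
      | add a b ha hb => rw [ha, hb, add_zero]
    rw [this a, this b]
  have : Λ ⟨z, hz⟩ = 0 := Subsingleton.elim _ _
  exact (Submodule.Quotient.mk_eq_zero _).1 (congrArg Subtype.val this)

set_option maxHeartbeats 4000000 in
set_option synthInstance.maxHeartbeats 400000 in
/-- All truncations are flat at a finitely generated stage. -/
theorem exists_stage_allFlat (A : Type u) [CommRing A] [Algebra A₀ A] (hA : AllFlat A₀ J M₀ A) :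
    ∃ R : Subalgebra A₀ A, R.FG ∧ AllFlat A₀ J M₀ R := by
  classical
  obtain ⟨d, hd⟩ := exists_bound A₀ J M₀
  choose Rj hRj hRjflat using fun j => (by have := hA j; exact exists_stage_quo A₀ J M₀ A j)
  let R := (Finset.range (d + 1)).sup Rj
  have hR : R.FG := Finset.sup_induction Subalgebra.fg_bot (fun a ha b hb => ha.sup hb) fun j _ => hRj j
  have hlow : ∀ j ≤ d, Module.Flat R (R ⊗[A₀] Quo A₀ J M₀ j) := fun j hj =>
    hRjflat j R hR (Finset.le_sup (Finset.mem_range.2 (Nat.lt_succ_of_le hj)))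
  have : Algebra.FiniteType A₀ R := (Subalgebra.fg_iff_finiteType R).mp hR
  have : IsNoetherianRing R := isNoetherianRing_of_fg hR
  have heq : IsScalarTower.toAlgHom A₀ R A = R.val := AlgHom.ext fun _ => rfl
  have hinj : ∀ k, Function.Injective (pieceMap (psi A₀ J M₀ k) R A) := fun k =>
    pieceMap_injective_of_ker_le _ R A fun x hx => by
      simp only [bc, heq]
      exact kerDeg_le_span_of_bound A₀ J M₀ A hA d hd R hR hlow k hx
  have hE : Module.Flat A (A ⊗[R] (VR A₀ J M₀ R ⧸ kerR A₀ J M₀ R)) := flat_sum A₀ J M₀ R A fun k => by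
    have := hA k
    have := hA (k + 1)
    have := flat_range_of_flat A₀ J M₀ (R := A) k
    exact flat_piece_of_range _ R A (hinj k)
  have := finite_rees A₀ J M₀
  have := finiteType_reesAlgebra A₀ J
  let E := VR A₀ J M₀ R ⧸ kerR A₀ J M₀ R
  obtain ⟨A', hA', hflat⟩ := exists_stage_flat_module R (SR A₀ J R) E A
  have : Module.Flat A' (A' ⊗[R] E) := hflat A' hA' le_rfl
  have : Algebra.FiniteType R A' := (Subalgebra.fg_iff_finiteType A').mp hA'
  have hft : Algebra.FiniteType A₀ A' := Algebra.FiniteType.trans ‹Algebra.FiniteType A₀ R› this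
  refine ⟨A'.restrictScalars A₀, (Subalgebra.fg_iff_finiteType _).mpr hft,
    allFlat_of_range A₀ J M₀ (R := A') fun k => ?_⟩
  have := flat_tensor_piece A₀ J M₀ R A' k
  exact flat_range_of_piece _ R A'
    (pieceMap_injective_of_le _ (A := A) Subtype.val_injective (hinj k))

end Groth.Ega43Gr
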