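import Groth.Agent.Ega43Gr.Models
import Groth.Agent.Ega43Gr.Stage
import Groth.Agent.FlatMorOne.FlatLocusColimit

/-! Flatness of all truncations and limits of rings. -/

set_option autoImplicit false

universe u

open TensorProduct Groth.FlatMorOne

namespace Groth.Ega43Gr

variable (A₀ : Type u) [CommRing A₀] {B₀ : Type u} [CommRing B₀] [Algebra A₀ B₀] (J : Ideal B₀)
  (M₀ : Type u) [AddCommGroup M₀] [Module B₀ M₀] [Module A₀ M₀] [IsScalarTower A₀ B₀ M₀]

theorem allFlat_iff_quotient_range (C : Type u) [CommRing C] [Algebra A₀ C] :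
    AllFlat A₀ J M₀ C ↔ ∀ k : ℕ, Module.Flat C ((C ⊗[A₀] M₀) ⧸
      LinearMap.range (((J ^ k • (⊤ : Submodule B₀ M₀)).restrictScalars A₀).subtype.baseChange C)) := by
  refine forall_congr' fun k => ?_
  have hex : Function.Exact ((Fil A₀ J M₀ k).subtype.baseChange C) ((Fil A₀ J M₀ k).mkQ.baseChange C) :=
    lTensor_exact C (LinearMap.exact_subtype_mkQ _) (Submodule.mkQ_surjective _)
  exact (Module.Flat.equiv_iff (hex.linearEquivOfSurjective
    (LinearMap.lTensor_surjective C (Submodule.mkQ_surjective _)))).symm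

variable {A₀ J M₀}

theorem Model.allFlat_iff (D : Model A₀ J M₀) (C : Type u) [CommRing C] [Algebra A₀ C] :
    AllFlat A₀ J M₀ C ↔ AllFlat D.base D.ideal D.mod C :=
  forall_congr' fun k => D.flat_iff k C

set_option synthInstance.maxHeartbeats 400000 in
set_option maxHeartbeats 1000000 in
/-- Over a directed colimit of rings, all truncations are flat iff they are flat at some stage. -/
theorem allFlat_colimit_iff {ι : Type u} [Preorder ι] [IsDirectedOrder ι] [Nonempty ι] {G : ι → Type u}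
    [∀ i, CommRing (G i)] [∀ i, Algebra A₀ (G i)] (g : ∀ i j, i ≤ j → G i →ₐ[A₀] G j)
    {A : Type u} [CommRing A] [Algebra A₀ A] (can : ∀ i, G i →ₐ[A₀] A)
    (hcomp : ∀ i j (h : i ≤ j), (can j).comp (g i j h) = can i)
    (hsurj : ∀ a : A, ∃ i x, can i x = a)
    (hker : ∀ i (x : G i), can i x = 0 → ∃ j, ∃ h : i ≤ j, g i j h x = 0)
    [Algebra.FinitePresentation A₀ B₀] (hJ : J.FG) [Module.FinitePresentation B₀ M₀] :
    AllFlat A₀ J M₀ A ↔ ∃ i, AllFlat A₀ J M₀ (G i) := by
  refine ⟨fun h => ?_, fun ⟨i, hi⟩ => AllFlat.of_algHom A₀ J M₀ (can i) hi⟩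
  obtain ⟨D⟩ := exists_model A₀ J M₀ hJ
  have := D.isNoetherianRing_base
  obtain ⟨R, hR, hflat⟩ := exists_stage_allFlat D.base D.ideal D.mod A ((D.allFlat_iff A).1 h)
  have : Algebra.FiniteType D.base R := (Subalgebra.fg_iff_finiteType R).mp hR
  have : Algebra.FinitePresentation D.base R := Algebra.FinitePresentation.of_finiteType.mp this
  obtain ⟨j, φ, -⟩ := exists_algHom_stage (R₀ := D.base) (fun i j h => (g i j h).restrictScalars D.base)
    (fun i => (can i).restrictScalars D.base)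
    (fun i j h => AlgHom.ext fun x => AlgHom.congr_fun (hcomp i j h) x) hsurj hker R R.val
  exact ⟨j, (D.allFlat_iff (G j)).2 (AllFlat.of_algHom D.base D.ideal D.mod φ hflat)⟩

end Groth.Ega43Gr
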