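import Groth.Agent.FlatMorOne.FlatnessCriteria
import Groth.Agent.FlatMorOne.FlatLocusBaseChange
import Mathlib.RingTheory.Flat.Localization
import Mathlib.RingTheory.Flat.FaithfullyFlat.Basic
import Mathlib.RingTheory.LocalRing.Module
import Mathlib.RingTheory.Localization.BaseChange
import Mathlib.RingTheory.IsTensorProduct

/-! Flatness at a prime descends along a base change of the ground ring. -/

set_option autoImplicit false

universe u

open TensorProduct

namespace Groth.Ega43Gr

/-- Injectivity after tensoring does not change between a ring and its localization. -/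
theorem lTensor_injective_iff_localization {R L D X Y : Type u} [CommRing R] [CommRing L] [Algebra R L]
    (S : Submonoid R) [IsLocalization S L] [AddCommGroup D] [Module R D] [Module L D] [IsScalarTower R L D]
    [AddCommGroup X] [Module R X] [Module L X] [IsScalarTower R L X]
    [AddCommGroup Y] [Module R Y] [Module L Y] [IsScalarTower R L Y] (f : X →ₗ[L] Y) :
    Function.Injective (f.lTensor D) ↔ Function.Injective ((f.restrictScalars R).lTensor D) := by
  let eX := IsLocalization.moduleTensorEquiv S L D X
  let eY := IsLocalization.moduleTensorEquiv S L D Y
  have h : ∀ z, eY (f.lTensor D z) = (f.restrictScalars R).lTensor D (eX z) := by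
    intro z
    induction z with
    | zero => simp
    | tmul d x =>
      have hX : eX (d ⊗ₜ[L] x) = d ⊗ₜ[R] x := rfl
      have hY : eY (d ⊗ₜ[L] f x) = d ⊗ₜ[R] f x := rfl
      rw [LinearMap.lTensor_tmul, hX, hY, LinearMap.lTensor_tmul]
      rfl
    | add a b ha hb => simp only [map_add, ha, hb]
  constructor
  · intro hf a b hab
    obtain ⟨a, rfl⟩ := eX.surjective a
    obtain ⟨b, rfl⟩ := eX.surjective b
    rw [← h, ← h] at hab
    rw [hf (eY.injective hab)]
  · intro hf a b hab
    exact eX.injective (hf (by rw [← h, ← h, hab]))

/-- Injectivity after tensoring transfers along a pushout. -/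
theorem lTensor_injective_iff_pushout {R A S B X Y : Type u} [CommRing R] [CommRing A] [CommRing S]
    [CommRing B] [Algebra R A] [Algebra R S] [Algebra A B] [Algebra S B] [Algebra R B] [IsScalarTower R A B]
    [IsScalarTower R S B] [Algebra.IsPushout R A S B] [AddCommGroup X] [Module R X] [Module S X]
    [IsScalarTower R S X] [AddCommGroup Y] [Module R Y] [Module S Y] [IsScalarTower R S Y] (f : X →ₗ[S] Y) :
    Function.Injective (f.lTensor B) ↔ Function.Injective ((f.restrictScalars R).lTensor A) := by
  let eX := Algebra.IsPushout.cancelBaseChange R A S B X
  let eY := Algebra.IsPushout.cancelBaseChange R A S B Y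
  have h : ∀ z, eY.symm ((f.restrictScalars R).lTensor A z) = f.lTensor B (eX.symm z) := by
    intro z
    induction z with
    | zero => simp
    | tmul a x => simp [eX, eY]
    | add a b ha hb => simp only [map_add, ha, hb]
  constructor
  · intro hf a b hab
    exact eX.symm.injective (hf (by rw [← h, ← h, hab]))
  · intro hf a b hab
    obtain ⟨a, rfl⟩ := eX.symm.surjective a
    obtain ⟨b, rfl⟩ := eX.symm.surjective b
    rw [← h, ← h] at hab
    rw [hf (eY.symm.injective hab)]

set_option maxHeartbeats 1000000 in
/-- If a finite module, flat over the base, becomes flat at a prime after base change, it is flat at the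
prime below. -/
theorem flat_localized_of_baseChange {R A C' C H : Type u} [CommRing R] [CommRing A] [CommRing C']
    [CommRing C] [Algebra R A] [Algebra R C'] [Algebra A C] [Algebra C' C] [Algebra R C] [IsScalarTower R A C]
    [IsScalarTower R C' C] [Algebra.IsPushout R A C' C] [IsNoetherianRing C'] [AddCommGroup H] [Module R H]
    [Module C' H] [IsScalarTower R C' H] [Module.Finite C' H] [Module.Flat R H] (q : Ideal C) [q.IsPrime]
    [Module.Flat C (LocalizedModule q.primeCompl (C ⊗[C'] H))] :
    Module.Flat C' (LocalizedModule (q.comap (algebraMap C' C)).primeCompl H) := by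
  let q' := q.comap (algebraMap C' C)
  let L := Localization.AtPrime q'
  let D := Localization.AtPrime q
  have : IsNoetherianRing L := IsLocalization.isNoetherianRing q'.primeCompl L inferInstance
  let φ : L →+* D := Localization.localRingHom q' q (algebraMap C' C) rfl
  let : Algebra L D := φ.toAlgebra
  have : IsScalarTower C' L D := IsScalarTower.of_algebraMap_eq fun x => by
    show _ = φ (algebraMap C' L x)
    rw [Localization.localRingHom_to_map, ← IsScalarTower.algebraMap_apply C' C D]
  have : IsLocalHom (algebraMap L D) := Localization.isLocalHom_localRingHom q' q (algebraMap C' C) rfl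
  let X := LocalizedModule q'.primeCompl H
  have : Module.Finite L X := Module.Finite.of_isLocalizedModule q'.primeCompl
    (LocalizedModule.mkLinearMap q'.primeCompl H)
  have : Module.Flat R H := inferInstance
  have : Module.Flat R X := FlatMorOne.flat_localized_of_flat (R := R) q'.primeCompl
  obtain ⟨n, g, hg⟩ := Module.Finite.exists_fin' L X
  let K := LinearMap.ker g
  have : Module.Finite L K := Module.Finite.iff_fg.2 (IsNoetherian.noetherian K)
  have hex : Function.Exact K.subtype g := LinearMap.exact_subtype_ker_map g
  -- the cokernel over `R` is flat
  have ha : Function.Injective ((K.subtype.restrictScalars C').lTensor C) := by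
    rw [lTensor_injective_iff_pushout (R := R) (A := A)]
    exact LinearMap.lTensor_injective_of_exact_of_flat ((g.restrictScalars C').restrictScalars R) hg _
      K.injective_subtype hex A
  have hb : Function.Injective ((K.subtype.restrictScalars C').lTensor D) := by
    rw [← FlatMorOne.lTensor_baseChange_injective_iff (T := C)]
    exact Module.Flat.lTensor_preserves_injective_linearMap _ ha
  have hc : Function.Injective (K.subtype.baseChange D) := by
    exact (lTensor_injective_iff_localization q'.primeCompl K.subtype).2 hb
  -- flatness over `D`
  have : Module.Flat D (D ⊗[L] X) := by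
    have hD : Module.Flat D (LocalizedModule q.primeCompl (C ⊗[C'] H)) :=
      (Module.flat_iff_of_isLocalization D q.primeCompl _).2 inferInstance
    exact Module.Flat.of_linearEquiv <|
      (AlgebraTensorModule.congr (LinearEquiv.refl D D)
        (LocalizedModule.equivTensorProduct q'.primeCompl H)).trans <|
      (AlgebraTensorModule.cancelBaseChange C' L D D H).trans <|
      (AlgebraTensorModule.cancelBaseChange C' C D D H).symm.trans
        (LocalizedModule.equivTensorProduct q.primeCompl (C ⊗[C'] H)).symm
  let κD := IsLocalRing.ResidueField D
  let κL := IsLocalRing.ResidueField L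
  have hd : Function.Injective (K.subtype.lTensor κD) := by
    rw [← FlatMorOne.lTensor_baseChange_injective_iff (T := D)]
    exact LinearMap.lTensor_injective_of_exact_of_flat (g.baseChange D) (LinearMap.lTensor_surjective D hg)
      _ hc (lTensor_exact D hex hg) κD
  let : Algebra κL κD := (IsLocalRing.ResidueField.map φ).toAlgebra
  have : IsScalarTower L κL κD := IsScalarTower.of_algebraMap_eq fun x => by
    show _ = IsLocalRing.ResidueField.map φ (IsLocalRing.residue L x)
    rw [IsLocalRing.ResidueField.map_residue]
    rfl
  have he : Function.Injective (K.subtype.lTensor κL) := by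
    rw [← FlatMorOne.lTensor_baseChange_injective_iff (T := κL)] at hd
    exact (Module.FaithfullyFlat.lTensor_injective_iff_injective κL κD _).1 hd
  have : Module.Free L X := Module.free_of_lTensor_residueField_injective K.subtype g hg hex he
  exact Module.Flat.trans C' L X

end Groth.Ega43Gr
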