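import Groth.Agent.Ega43Gr.Localized
import Groth.Agent.Ega43Gr.FlatDescent

/-! The graded pieces of an adic filtration and their base change. -/

set_option autoImplicit false

universe u

open TensorProduct

namespace Groth.Ega43Gr

section Def

variable {B : Type u} [CommRing B] (J : Ideal B) (M : Type u) [AddCommGroup M] [Module B M]

/-- `J^k M / J^(k+1) M`. -/
abbrev GrPiece (k : ℕ) : Type u :=
  ↥(J ^ k • (⊤ : Submodule B M)) ⧸ Submodule.comap (J ^ k • (⊤ : Submodule B M)).subtype (J ^ (k + 1) • ⊤)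

/-- A graded piece inside `M / J^(k+1) M`. -/
noncomputable def grInc (k : ℕ) : GrPiece J M k →ₗ[B] M ⧸ J ^ (k + 1) • (⊤ : Submodule B M) :=
  Submodule.mapQ _ _ (J ^ k • (⊤ : Submodule B M)).subtype le_rfl

theorem grInc_injective (k : ℕ) : Function.Injective (grInc J M k) := by
  rw [← LinearMap.ker_eq_bot]
  exact Submodule.ker_liftQ_eq_bot _ _ _ (by rw [LinearMap.ker_comp, Submodule.ker_mkQ])

theorem pow_succ_smul_top_le (k : ℕ) : J ^ (k + 1) • (⊤ : Submodule B M) ≤ J ^ k • ⊤ :=
  Submodule.smul_mono_left (Ideal.pow_le_pow_right (Nat.le_succ k))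

/-- `M / J^(k+1) M → M / J^k M`. -/
noncomputable def grProj (k : ℕ) :
    M ⧸ J ^ (k + 1) • (⊤ : Submodule B M) →ₗ[B] M ⧸ J ^ k • (⊤ : Submodule B M) :=
  Submodule.factor (pow_succ_smul_top_le J M k)

theorem grProj_surjective (k : ℕ) : Function.Surjective (grProj J M k) :=
  Submodule.factor_surjective (pow_succ_smul_top_le J M k)

theorem exact_grInc_grProj (k : ℕ) : Function.Exact (grInc J M k) (grProj J M k) := by
  intro z
  obtain ⟨x, rfl⟩ := Submodule.mkQ_surjective _ z
  constructor
  · intro hx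
    exact ⟨Submodule.Quotient.mk ⟨x, (Submodule.Quotient.mk_eq_zero _).1 hx⟩, rfl⟩
  · rintro ⟨y, hy⟩
    obtain ⟨y, rfl⟩ := Submodule.mkQ_surjective _ y
    rw [← hy]
    exact (Submodule.Quotient.mk_eq_zero _).2 y.2

theorem smul_grPiece_eq_zero (k : ℕ) : J • (⊤ : Submodule B (GrPiece J M k)) = ⊥ := by
  rw [eq_bot_iff, Submodule.smul_le]
  intro j hj z _
  obtain ⟨⟨x, hx⟩, rfl⟩ := Submodule.mkQ_surjective _ z
  rw [Submodule.mem_bot, ← map_smul]
  refine (Submodule.Quotient.mk_eq_zero _).2 ?_
  show j • x ∈ J ^ (k + 1) • (⊤ : Submodule B M)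
  rw [pow_succ', Submodule.mul_smul]
  exact Submodule.smul_mem_smul hj hx

/-- Reducing `J^k M` or `J^k M / J^(k+1) M` modulo `J` is the same. -/
theorem bijective_baseChange_mkQ (k : ℕ) :
    Function.Bijective ((Submodule.comap (J ^ k • (⊤ : Submodule B M)).subtype
      (J ^ (k + 1) • ⊤)).mkQ.baseChange (B ⧸ J)) := by
  set W := Submodule.comap (J ^ k • (⊤ : Submodule B M)).subtype (J ^ (k + 1) • ⊤)
  refine ⟨?_, LinearMap.lTensor_surjective _ (Submodule.mkQ_surjective _)⟩
  rw [injective_iff_map_eq_zero]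
  intro z hz
  obtain ⟨w, rfl⟩ := (lTensor_exact (B ⧸ J) (LinearMap.exact_subtype_mkQ W) (Submodule.mkQ_surjective W) z).1 hz
  clear hz
  induction w with
  | zero => simp
  | add a b ha hb => rw [map_add, ha, hb, add_zero]
  | tmul c x =>
    obtain ⟨⟨x, hxk⟩, hx⟩ := x
    rw [LinearMap.lTensor_tmul]
    show c ⊗ₜ[B] (⟨x, hxk⟩ : ↥(J ^ k • (⊤ : Submodule B M))) = 0
    have hW : (⟨x, hxk⟩ : ↥(J ^ k • (⊤ : Submodule B M))) ∈ J • (⊤ : Submodule B ↥(J ^ k • (⊤ : Submodule B M))) := by
      have h1 : x ∈ J ^ (k + 1) • (⊤ : Submodule B M) := hx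
      rw [pow_succ', Submodule.mul_smul, ← Submodule.map_subtype_top (J ^ k • (⊤ : Submodule B M)),
        ← Submodule.map_smul''] at h1
      obtain ⟨y, hy, hyx⟩ := h1
      rwa [← show y = ⟨x, hxk⟩ from Subtype.ext hyx]
    revert hW
    generalize (⟨x, hxk⟩ : ↥(J ^ k • (⊤ : Submodule B M))) = y
    intro hW
    induction hW using Submodule.smul_induction_on' with
    | smul j hj u _ =>
      have hjc : j • c = 0 := by
        rw [Algebra.smul_def, Ideal.Quotient.algebraMap_eq, Ideal.Quotient.eq_zero_iff_mem.2 hj, zero_mul]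
      rw [tmul_smul, smul_tmul', hjc, zero_tmul]
    | add a _ b _ ha hb => rw [tmul_add, ha, hb, add_zero]

/-- `(B/J) ⊗ J^k M = (B/J) ⊗ gr_k`. -/
noncomputable def grTensorEquiv (k : ℕ) :
    (B ⧸ J) ⊗[B] ↥(J ^ k • (⊤ : Submodule B M)) ≃ₗ[B ⧸ J] (B ⧸ J) ⊗[B] GrPiece J M k :=
  LinearEquiv.ofBijective _ (bijective_baseChange_mkQ J M k)

variable {A : Type u} [CommRing A] [Algebra A B] [Module A M] [IsScalarTower A B M]

theorem flat_grPiece (h : ∀ n, Module.Flat A (M ⧸ J ^ n • (⊤ : Submodule B M))) (k : ℕ) :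
    Module.Flat A (GrPiece J M k) := by
  have := h k
  have := h (k + 1)
  let g : M ⧸ J ^ (k + 1) • (⊤ : Submodule B M) →ₗ[A] M ⧸ J ^ k • (⊤ : Submodule B M) :=
    (grProj J M k).restrictScalars A
  let ι := (grInc J M k).restrictScalars A
  have hg : Function.Surjective g := grProj_surjective J M k
  have hex : Function.Exact ι g := exact_grInc_grProj J M k
  have := Syntomic.flat_ker g hg
  have heq : LinearMap.range ι = LinearMap.ker g := hex.linearMap_ker_eq.symm
  exact Module.Flat.of_linearEquiv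
    ((LinearEquiv.ofInjective ι (grInc_injective J M k)).trans (LinearEquiv.ofEq _ _ heq))

end Def

section BaseChange

variable {R A S B N M : Type u} [CommRing R] [CommRing A] [CommRing S] [CommRing B] [Algebra R A] [Algebra R S]
  [Algebra A B] [Algebra S B] [Algebra R B] [IsScalarTower R A B] [IsScalarTower R S B]
  [hpush : Algebra.IsPushout R A S B] [AddCommGroup N] [Module R N] [Module S N] [IsScalarTower R S N]
  [AddCommGroup M] [Module S M] [Module B M] [IsScalarTower S B M] (I : Ideal S)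
  {f : N →ₗ[S] M} (hf : IsBaseChange B f)

theorem map_mem_pow_smul (k : ℕ) (f : N →ₗ[S] M) {x : N} (hx : x ∈ I ^ k • (⊤ : Submodule S N)) :
    f x ∈ (I.map (algebraMap S B)) ^ k • (⊤ : Submodule B M) := by
  refine Submodule.smul_induction_on hx (fun s hs n _ => ?_) fun a b ha hb => ?_
  · rw [map_smul, ← algebraMap_smul B s]
    exact Submodule.smul_mem_smul (Ideal.map_pow (algebraMap S B) I k ▸ Ideal.mem_map_of_mem _ hs) trivial
  · rw [map_add]; exact add_mem ha hb

/-- The map of `I^k N` to `J^k M`. -/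
noncomputable def powMap (f : N →ₗ[S] M) (k : ℕ) :
    ↥(I ^ k • (⊤ : Submodule S N)) →ₗ[S] ↥((I.map (algebraMap S B)) ^ k • (⊤ : Submodule B M)) where
  toFun x := ⟨f x, map_mem_pow_smul I k f x.2⟩
  map_add' a b := Subtype.ext (by simp)
  map_smul' s a := Subtype.ext (by simp)

/-- The map on graded pieces. -/
noncomputable def grMap (f : N →ₗ[S] M) (k : ℕ) :
    GrPiece I N k →ₗ[S] GrPiece (I.map (algebraMap S B)) M k :=
  (Submodule.comap (I ^ k • (⊤ : Submodule S N)).subtype (I ^ (k + 1) • ⊤)).liftQ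
    ((Submodule.mkQ _).restrictScalars S ∘ₗ powMap I f k)
    fun _ hx => (Submodule.Quotient.mk_eq_zero _).2 (map_mem_pow_smul I (k + 1) f hx)

include hf in
theorem surjective_grMap (k : ℕ) : Function.Surjective ((grMap (B := B) I f k).liftBaseChange B) := by
  intro z
  obtain ⟨⟨x, hx⟩, rfl⟩ := Submodule.mkQ_surjective _ z
  suffices h : ∀ y ∈ (I.map (algebraMap S B)) ^ k • (⊤ : Submodule B M),
      ∃ h : y ∈ (I.map (algebraMap S B)) ^ k • (⊤ : Submodule B M),
        Submodule.Quotient.mk (⟨y, h⟩ : ↥((I.map (algebraMap S B)) ^ k • (⊤ : Submodule B M))) ∈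
          LinearMap.range ((grMap (B := B) I f k).liftBaseChange B) by
    obtain ⟨_, h'⟩ := h x hx
    exact h'
  have hgen : (I.map (algebraMap S B)) ^ k • (⊤ : Submodule B M) ≤
      Submodule.span B (f '' (I ^ k • (⊤ : Submodule S N) : Submodule S N)) := by
    rw [← Ideal.map_pow, Submodule.smul_le]
    intro b hb m _
    induction hb using Submodule.span_induction generalizing m with
    | mem b hb =>
      obtain ⟨s, hs, rfl⟩ := hb
      refine hf.inductionOn m _ (by rw [smul_zero]; exact zero_mem _) (fun n => ?_) (fun c m hm => ?_)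
        (fun a b ha hb => by rw [smul_add]; exact add_mem ha hb)
      · rw [algebraMap_smul, ← map_smul]
        exact Submodule.subset_span ⟨_, Submodule.smul_mem_smul hs trivial, rfl⟩
      · rw [smul_comm]; exact Submodule.smul_mem _ _ hm
    | zero => rw [zero_smul]; exact zero_mem _
    | add a b _ _ ha hb => rw [add_smul]; exact add_mem (ha m trivial) (hb m trivial)
    | smul c a _ ha => rw [smul_eq_mul, mul_smul]; exact Submodule.smul_mem _ _ (ha m trivial)
  intro y hy
  have hy' := hgen hy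
  refine ⟨hy, ?_⟩
  revert hy
  induction hy' using Submodule.span_induction with
  | mem y hy' =>
    obtain ⟨n, hn, rfl⟩ := hy'
    intro hy
    refine ⟨(1 : B) ⊗ₜ[S] Submodule.Quotient.mk ⟨n, hn⟩, ?_⟩
    rw [LinearMap.liftBaseChange_tmul, one_smul]
    rfl
  | zero => intro hy; exact ⟨0, map_zero _⟩
  | add a b ha' hb' ha hb =>
    intro hy
    have hmem : ∀ w ∈ Submodule.span B (f '' (I ^ k • (⊤ : Submodule S N) : Submodule S N)),
        w ∈ (I.map (algebraMap S B)) ^ k • (⊤ : Submodule B M) := fun w hw =>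
      Submodule.span_le.2 (by rintro _ ⟨n, hn, rfl⟩; exact map_mem_pow_smul I k f hn) hw
    exact add_mem (ha (hmem a ha')) (hb (hmem b hb'))
  | smul c a ha' ha =>
    intro hy
    have hmem : a ∈ (I.map (algebraMap S B)) ^ k • (⊤ : Submodule B M) :=
      Submodule.span_le.2 (by rintro _ ⟨n, hn, rfl⟩; exact map_mem_pow_smul I k f hn) ha'
    exact Submodule.smul_mem _ c (ha hmem)

variable (R A) in
include hf hpush in
theorem injective_grMap (k : ℕ) [Module.Flat R (N ⧸ I ^ k • (⊤ : Submodule S N))] :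
    Function.Injective ((grMap (B := B) I f k).liftBaseChange B) := by
  set J := I.map (algebraMap S B)
  let ι' := grInc I N k
  let ι := grInc J M k
  have h1 : Function.Injective (ι'.baseChange B) := by
    show Function.Injective (ι'.lTensor B)
    rw [lTensor_injective_iff_pushout (R := R) (A := A)]
    exact LinearMap.lTensor_injective_of_exact_of_flat ((grProj I N k).restrictScalars R)
      (grProj_surjective I N k) _ (grInc_injective I N k) (exact_grInc_grProj I N k) A
  let W := I ^ (k + 1) • (⊤ : Submodule S N)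
  let ψ : N ⧸ W →ₗ[S] M ⧸ J ^ (k + 1) • (⊤ : Submodule B M) :=
    W.liftQ ((Submodule.mkQ _).restrictScalars S ∘ₗ f)
      fun x hx => (Submodule.Quotient.mk_eq_zero _).2 (map_mem_pow_smul I (k + 1) f hx)
  have hcomm : ∀ z, ι ((grMap (B := B) I f k).liftBaseChange B z) = ψ.liftBaseChange B (ι'.baseChange B z) := by
    intro z
    induction z with
    | zero => simp
    | tmul b y =>
      obtain ⟨y, rfl⟩ := Submodule.mkQ_surjective _ y
      rw [LinearMap.baseChange_tmul, LinearMap.liftBaseChange_tmul, LinearMap.liftBaseChange_tmul, map_smul]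
      rfl
    | add a b ha hb => simp only [map_add, ha, hb]
  let L : M →ₗ[B] B ⊗[S] (N ⧸ W) := W.mkQ.baseChange B ∘ₗ hf.equiv.symm.toLinearMap
  have hkill : ∀ b ∈ J ^ (k + 1), ∀ u : B ⊗[S] (N ⧸ W), b • u = 0 := by
    intro b hb u
    rw [← Ideal.map_pow] at hb
    induction hb using Submodule.span_induction with
    | mem b hb =>
      obtain ⟨s, hs, rfl⟩ := hb
      induction u with
      | zero => rw [smul_zero]
      | tmul c y =>
        obtain ⟨y, rfl⟩ := Submodule.mkQ_surjective _ y
        rw [algebraMap_smul, ← tmul_smul, ← map_smul, show W.mkQ (s • y) = 0 from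
          (Submodule.Quotient.mk_eq_zero _).2 (Submodule.smul_mem_smul hs trivial), tmul_zero]
      | add a b ha hb => rw [smul_add, ha, hb, add_zero]
    | zero => rw [zero_smul]
    | add a b _ _ ha hb => rw [add_smul, ha, hb, add_zero]
    | smul c a _ ha => rw [smul_eq_mul, mul_smul, ha, smul_zero]
  have hL : J ^ (k + 1) • (⊤ : Submodule B M) ≤ LinearMap.ker L :=
    Submodule.smul_le.2 fun b hb m _ => by rw [LinearMap.mem_ker, map_smul, hkill b hb]
  have hleft : ∀ u, (J ^ (k + 1) • (⊤ : Submodule B M)).liftQ L hL (ψ.liftBaseChange B u) = u := by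
    intro u
    induction u with
    | zero => simp
    | tmul b y =>
      obtain ⟨y, rfl⟩ := Submodule.mkQ_surjective _ y
      rw [LinearMap.liftBaseChange_tmul, map_smul]
      show b • (W.mkQ.baseChange B (hf.equiv.symm (f y))) = _
      rw [hf.equiv_symm_apply, LinearMap.baseChange_tmul, smul_tmul', smul_eq_mul, mul_one]
    | add a b ha hb => simp only [map_add, ha, hb]
  intro x y hxy
  apply h1
  rw [← hleft (ι'.baseChange B x), ← hleft (ι'.baseChange B y), ← hcomm, ← hcomm, hxy]

variable (R A) in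
include hpush in
/-- Graded pieces commute with base change when the truncations are flat over the base. -/
noncomputable def grEquiv (k : ℕ) [Module.Flat R (N ⧸ I ^ k • (⊤ : Submodule S N))] :
    B ⊗[S] GrPiece I N k ≃ₗ[B] GrPiece (I.map (algebraMap S B)) M k :=
  LinearEquiv.ofBijective _ ⟨injective_grMap R A I hf k, surjective_grMap I hf k⟩

end BaseChange

end Groth.Ega43Gr
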