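import Groth.Agent.Ega43Gr.Colimit

/-! Flatness along an ideal with flat graded module. -/

set_option autoImplicit false

universe u

open TensorProduct Groth.FlatMorOne

namespace Groth.Ega43Gr

attribute [local instance] Algebra.TensorProduct.rightAlgebra

/-- Flat truncations give flatness at the primes containing the ideal, over a Noetherian algebra. -/
theorem flat_localized_of_flat_quotients {R S N : Type u} [CommRing R] [CommRing S] [Algebra R S]
    [IsNoetherianRing S] [AddCommGroup N] [Module R N] [Module S N] [IsScalarTower R S N] [Module.Finite S N]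
    (I : Ideal S) (q : Ideal S) [q.IsPrime] (hq : I ≤ q)
    (h : ∀ n, Module.Flat R (N ⧸ I ^ n • (⊤ : Submodule S N))) :
    Module.Flat R (LocalizedModule q.primeCompl N) := by
  let Sq := Localization.AtPrime q
  have : IsNoetherianRing Sq := IsLocalization.isNoetherianRing q.primeCompl Sq inferInstance
  have hI : I.map (algebraMap S Sq) ≤ Ideal.jacobson ⊥ := by
    rw [IsLocalRing.jacobson_eq_maximalIdeal _ bot_ne_top, ← Localization.AtPrime.map_eq_maximalIdeal]
    exact Ideal.map_mono hq
  have hflat : Module.Flat R (Sq ⊗[S] N) := by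
    refine Calg6.flat_of_flat_quotient_pow (I.map (algebraMap S Sq)) hI fun n => ?_
    rw [← Ideal.map_pow]
    have := h n
    have := flat_localized_of_flat (R := R) (M := N ⧸ I ^ n • (⊤ : Submodule S N)) q.primeCompl
    exact Module.Flat.of_linearEquiv (((quoBaseChange (I ^ n)).restrictScalars R).trans
      ((LocalizedModule.equivTensorProduct q.primeCompl (N ⧸ I ^ n • (⊤ : Submodule S N))).symm.restrictScalars R))
  exact Module.Flat.of_linearEquiv
    ((LocalizedModule.equivTensorProduct q.primeCompl N).restrictScalars R)

/-- Flat graded pieces give flat truncations. -/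
theorem allFlat_self_of_gr {A B : Type u} [CommRing A] [CommRing B] [Algebra A B] (J : Ideal B)
    (M : Type u) [AddCommGroup M] [Module B M] [Module A M] [IsScalarTower A B M]
    (hgr : ∀ k : ℕ, Module.Flat A
      (↥(J ^ k • (⊤ : Submodule B M)) ⧸ Submodule.comap (J ^ k • (⊤ : Submodule B M)).subtype (J ^ (k + 1) • ⊤))) :
    AllFlat A J M A := by
  have h : ∀ k, Module.Flat A (M ⧸ J ^ k • (⊤ : Submodule B M)) := by
    intro k
    induction k with
    | zero =>
      have : Subsingleton (M ⧸ J ^ 0 • (⊤ : Submodule B M)) := by
        rw [Submodule.Quotient.subsingleton_iff, pow_zero, Ideal.one_eq_top, Submodule.top_smul]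
      infer_instance
    | succ k ih =>
      have hle : J ^ (k + 1) • (⊤ : Submodule B M) ≤ J ^ k • ⊤ :=
        Submodule.smul_mono_left (Ideal.pow_le_pow_right (Nat.le_succ k))
      have := hgr k
      let f : (↥(J ^ k • (⊤ : Submodule B M)) ⧸
          Submodule.comap (J ^ k • (⊤ : Submodule B M)).subtype (J ^ (k + 1) • ⊤)) →ₗ[B]
          M ⧸ J ^ (k + 1) • (⊤ : Submodule B M) :=
        Submodule.mapQ _ _ (J ^ k • (⊤ : Submodule B M)).subtype le_rfl
      let g : M ⧸ J ^ (k + 1) • (⊤ : Submodule B M) →ₗ[B] M ⧸ J ^ k • (⊤ : Submodule B M) :=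
        Submodule.factor hle
      refine Calg6.flat_of_extension (f.restrictScalars A) (g.restrictScalars A) ?_ ?_ ?_
      · show Function.Injective f
        rw [← LinearMap.ker_eq_bot]
        exact Submodule.ker_liftQ_eq_bot _ _ _ (by rw [LinearMap.ker_comp, Submodule.ker_mkQ])
      · intro z
        obtain ⟨x, rfl⟩ := Submodule.mkQ_surjective _ z
        constructor
        · intro hx
          exact ⟨Submodule.Quotient.mk ⟨x, (Submodule.Quotient.mk_eq_zero _).1 hx⟩, rfl⟩
        · rintro ⟨y, hy⟩
          obtain ⟨y, rfl⟩ := Submodule.mkQ_surjective _ y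
          rw [← hy]
          exact (Submodule.Quotient.mk_eq_zero _).2 y.2
      · exact Submodule.factor_surjective hle
  intro k
  have := h k
  exact Module.Flat.of_linearEquiv ((TensorProduct.lid A (Quo A J M k)).trans
    (Submodule.Quotient.restrictScalarsEquiv A _))

/-- Over a model at a flat stage, the module is flat at the primes over the ideal. -/
theorem flat_localized_stage_of_allFlat {R R' S N : Type u} [CommRing R] [IsNoetherianRing R] [CommRing R']
    [Algebra R R'] [Algebra.FiniteType R R'] [CommRing S] [Algebra R S] [Algebra.FiniteType R S]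
    [AddCommGroup N] [Module R N] [Module S N] [IsScalarTower R S N] [Module.Finite S N] (I : Ideal S)
    (h : AllFlat R I N R') (q : Ideal (SOf R S R')) [q.IsPrime]
    (hq : I.map (algebraMap S (SOf R S R')) ≤ q) :
    Module.Flat R' (LocalizedModule q.primeCompl (MOf R S N R')) := by
  have : IsNoetherianRing R' := Algebra.FiniteType.isNoetherianRing R R'
  have : IsNoetherianRing (SOf R S R') := Algebra.FiniteType.isNoetherianRing R' _
  refine flat_localized_of_flat_quotients (I.map (algebraMap S (SOf R S R'))) q hq fun n => ?_
  rw [← Ideal.map_pow]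
  have := h n
  exact Module.Flat.of_linearEquiv <| ((quoBaseChange (I ^ n)).restrictScalars R').trans <|
    (Algebra.IsPushout.cancelBaseChange R R' S (SOf R S R') _).trans <|
      AlgebraTensorModule.congr (LinearEquiv.refl R' R') (Submodule.Quotient.restrictScalarsEquiv R _).symm

set_option maxHeartbeats 2000000 in
/-- The transfer along a model. -/
theorem flat_localized_of_model {R A B S N M : Type u} [CommRing R] [IsNoetherianRing R] [CommRing A]
    [Algebra R A] [CommRing B] [Algebra A B] [CommRing S] [Algebra R S] [Algebra.FiniteType R S]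
    [AddCommGroup N] [Module R N] [Module S N] [IsScalarTower R S N] [Module.Finite S N]
    [AddCommGroup M] [Module A M] [Module B M] [IsScalarTower A B M]
    (I : Ideal S) (p : SOf R S A →ₐ[A] B) (e : MOf R S N A ≃ₗ[A] M) (he : ∀ s x, e (s • x) = p s • e x)
    (h : AllFlat R I N A) (q : Ideal B) [q.IsPrime]
    (hq : (I.map (algebraMap S (SOf R S A))).map p ≤ q) :
    Module.Flat A (LocalizedModule q.primeCompl M) := by
  obtain ⟨R', hR', hflat⟩ := exists_stage_allFlat R I N A h
  have : Algebra.FiniteType R R' := (Subalgebra.fg_iff_finiteType R').mp hR'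
  let σ := (sMap R S (IsScalarTower.toAlgHom R R' A)).toRingHom
  let Q : Ideal (SOf R S A) := q.comap p.toRingHom
  have hQ : I.map (algebraMap S (SOf R S R')) ≤ Q.comap σ := by
    rw [Ideal.map_le_iff_le_comap]
    intro x hx
    show p (sMap R S (IsScalarTower.toAlgHom R R' A) (algebraMap S _ x)) ∈ q
    rw [AlgHom.commutes]
    exact hq (Ideal.mem_map_of_mem _ (Ideal.mem_map_of_mem _ hx))
  have := flat_localized_stage_of_allFlat I hflat (Q.comap σ) hQ
  have : Module.Flat A (LocalizedModule Q.primeCompl (MOf R S N A)) :=
    flat_localized_baseChange σ (isBaseChange_stageToTop (R₀ := R) (R := A) (S₀ := S) (M₀ := N) R')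
      (fun s m => mMap_smul R S N (IsScalarTower.toAlgHom R R' A) s m) Q
  exact flat_localized_baseChange p.toRingHom (IsBaseChange.ofEquiv e) he q

set_option synthInstance.maxHeartbeats 400000 in
set_option maxHeartbeats 1000000 in
/-- Flat graded module gives flatness along the ideal. -/
theorem flat_localized_of_gr {A B : Type u} [CommRing A] [CommRing B] [Algebra A B]
    [Algebra.FinitePresentation A B] (J : Ideal B) (hJ : J.FG)
    (M : Type u) [AddCommGroup M] [Module B M] [Module A M] [IsScalarTower A B M] [Module.FinitePresentation B M]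
    (hall : AllFlat A J M A) (q : Ideal B) [q.IsPrime] (hq : J ≤ q) :
    Module.Flat A (LocalizedModule q.primeCompl M) := by
  obtain ⟨D⟩ := exists_model A J M hJ
  have := D.isNoetherianRing_base
  exact flat_localized_of_model D.ideal D.proj D.equiv D.equiv_smul ((D.allFlat_iff A).1 hall) q
    (D.map_ideal.symm ▸ hq)

end Groth.Ega43Gr
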