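import Groth.Agent.Ega43Gr.Rees
import Groth.Agent.FlatMorOne.FlatLocusOpen
import Mathlib.RingTheory.TensorProduct.MvPolynomial

/-! Noetherian models of a finitely presented module with an ideal. -/

set_option autoImplicit false

universe u

open TensorProduct Groth.FlatMorOne

namespace Groth.Ega43Gr

attribute [local instance] Algebra.TensorProduct.rightAlgebra

section Quotient

variable {S₀ S N : Type u} [CommRing S₀] [CommRing S] [Algebra S₀ S] [AddCommGroup N] [Module S₀ N]

theorem ker_mkQ_baseChange (I : Ideal S₀) :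
    LinearMap.ker ((I • (⊤ : Submodule S₀ N)).mkQ.baseChange S) =
      I.map (algebraMap S₀ S) • (⊤ : Submodule S (S ⊗[S₀] N)) := by
  set W := I • (⊤ : Submodule S₀ N)
  refine le_antisymm (fun z hz => ?_) ?_
  · obtain ⟨w, rfl⟩ := (lTensor_exact S (LinearMap.exact_subtype_mkQ W) (Submodule.mkQ_surjective W) z).1 hz
    clear hz
    induction w with
    | zero => simp
    | add a b ha hb => rw [map_add]; exact add_mem ha hb
    | tmul s x =>
      rw [LinearMap.lTensor_tmul]
      obtain ⟨x, hx⟩ := x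
      show s ⊗ₜ[S₀] x ∈ _
      induction hx using Submodule.smul_induction_on' with
      | smul r hr y _ =>
        rw [tmul_smul, ← algebraMap_smul S r]
        exact Submodule.smul_mem_smul (Ideal.mem_map_of_mem _ hr) trivial
      | add a _ b _ ha hb => rw [tmul_add]; exact add_mem ha hb
  · rw [Submodule.smul_le]
    intro s hs z hz
    clear hz
    induction hs using Submodule.span_induction generalizing z with
    | mem x hx =>
      obtain ⟨r, hr, rfl⟩ := hx
      rw [algebraMap_smul]
      induction z with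
      | zero => simp
      | tmul t y =>
        rw [← tmul_smul, LinearMap.mem_ker, LinearMap.baseChange_tmul, Submodule.mkQ_apply,
          (Submodule.Quotient.mk_eq_zero _).2 (Submodule.smul_mem_smul hr Submodule.mem_top), tmul_zero]
      | add a b ha hb => rw [smul_add]; exact add_mem ha hb
    | zero => simp
    | add a b _ _ ha hb => rw [add_smul]; exact add_mem (ha z) (hb z)
    | smul c a _ ha => rw [smul_eq_mul, mul_smul]; exact Submodule.smul_mem _ _ (ha z)

/-- `(S ⊗ N) / I^k (S ⊗ N) = S ⊗ (N / I^k N)`. -/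
noncomputable def quoBaseChange (I : Ideal S₀) :
    ((S ⊗[S₀] N) ⧸ I.map (algebraMap S₀ S) • (⊤ : Submodule S (S ⊗[S₀] N))) ≃ₗ[S]
      S ⊗[S₀] (N ⧸ I • (⊤ : Submodule S₀ N)) :=
  (Submodule.quotEquivOfEq _ _ (ker_mkQ_baseChange I).symm).trans
    (LinearMap.quotKerEquivOfSurjective _ (LinearMap.lTensor_surjective S (Submodule.mkQ_surjective _)))

end Quotient

section Transport

variable {A₀ : Type u} [CommRing A₀] {B₀ : Type u} [CommRing B₀] [Algebra A₀ B₀] {J : Ideal B₀}
  {M₀ : Type u} [AddCommGroup M₀] [Module B₀ M₀] [Module A₀ M₀] [IsScalarTower A₀ B₀ M₀]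
  (R : Type u) [CommRing R] [Algebra R A₀] {S₀ : Type u} [CommRing S₀] [Algebra R S₀]
  {N : Type u} [AddCommGroup N] [Module S₀ N] [Module R N] [IsScalarTower R S₀ N]
  (p : SOf R S₀ A₀ →ₐ[A₀] B₀) (hp : Function.Surjective p) (I : Ideal S₀)
  (hI : (I.map (algebraMap S₀ (SOf R S₀ A₀))).map p = J)
  (e : MOf R S₀ N A₀ ≃ₗ[A₀] M₀) (he : ∀ s x, e (s • x) = p s • e x)

set_option maxHeartbeats 1000000 in
include hp hI he in
theorem map_equivOf (k : ℕ) :
    Submodule.map e.toLinearMap
      (((I ^ k).map (algebraMap S₀ (SOf R S₀ A₀)) •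
        (⊤ : Submodule (SOf R S₀ A₀) (MOf R S₀ N A₀))).restrictScalars A₀) =
      Fil A₀ J M₀ k := by
  have hJ : J ^ k = ((I ^ k).map (algebraMap S₀ (SOf R S₀ A₀))).map p := by
    rw [Ideal.map_pow, Ideal.map_pow, hI]
  ext x
  constructor
  · rintro ⟨w, hw, rfl⟩
    have hw' : w ∈ (I ^ k).map (algebraMap S₀ (SOf R S₀ A₀)) •
      (⊤ : Submodule (SOf R S₀ A₀) (MOf R S₀ N A₀)) := hw
    show e w ∈ J ^ k • (⊤ : Submodule B₀ M₀)
    refine Submodule.smul_induction_on (p := fun w => e w ∈ J ^ k • (⊤ : Submodule B₀ M₀)) hw'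
      (fun s hs y _ => ?_) fun a b ha hb => ?_
    · rw [he, hJ]
      exact Submodule.smul_mem_smul (Ideal.mem_map_of_mem _ hs) Submodule.mem_top
    · rw [map_add]; exact add_mem ha hb
  · intro hx
    have hx' : x ∈ J ^ k • (⊤ : Submodule B₀ M₀) := hx
    refine Submodule.smul_induction_on hx' (fun c hc y _ => ?_) fun a b ha hb => add_mem ha hb
    rw [hJ, Ideal.mem_map_iff_of_surjective _ hp] at hc
    obtain ⟨s, hs, rfl⟩ := hc
    have h1 : s • e.symm y ∈ (I ^ k).map (algebraMap S₀ (SOf R S₀ A₀)) •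
        (⊤ : Submodule (SOf R S₀ A₀) (MOf R S₀ N A₀)) := Submodule.smul_mem_smul hs Submodule.mem_top
    have h2 := Submodule.mem_map_of_mem (f := e.toLinearMap) ((Submodule.restrictScalars_mem A₀ _ _).2 h1)
    rw [LinearEquiv.coe_coe, he, LinearEquiv.apply_symm_apply] at h2
    exact h2

/-- A truncation is a base change of the one of a model. -/
noncomputable def quoEquivOf (k : ℕ) : Quo A₀ J M₀ k ≃ₗ[A₀] A₀ ⊗[R] Quo R I N k :=
  (Submodule.Quotient.equiv _ _ e (map_equivOf R p hp I hI e he k)).symm.trans <|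
    (Submodule.Quotient.restrictScalarsEquiv A₀ _).trans <|
      ((quoBaseChange (I ^ k)).restrictScalars A₀).trans <|
        (Algebra.IsPushout.cancelBaseChange R A₀ S₀ (SOf R S₀ A₀) _).trans <|
          AlgebraTensorModule.congr (LinearEquiv.refl A₀ A₀)
            (Submodule.Quotient.restrictScalarsEquiv R _).symm

end Transport

section Model

variable (A₀ : Type u) [CommRing A₀] {B₀ : Type u} [CommRing B₀] [Algebra A₀ B₀] (J : Ideal B₀)
  (M₀ : Type u) [AddCommGroup M₀] [Module B₀ M₀] [Module A₀ M₀] [IsScalarTower A₀ B₀ M₀]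

/-- A model over a finite type `ℤ`-subalgebra. -/
structure Model where
  /-- The base. -/
  base : Subalgebra ℤ A₀
  base_fg : base.FG
  /-- The number of variables. -/
  n : ℕ
  /-- The number of generators. -/
  m : ℕ
  /-- The relations. -/
  rel : Submodule (MvPolynomial (Fin n) base) (Fin m → MvPolynomial (Fin n) base)
  /-- The ideal. -/
  ideal : Ideal (MvPolynomial (Fin n) base)
  /-- The presentation of the algebra. -/
  proj : SOf base (MvPolynomial (Fin n) base) A₀ →ₐ[A₀] B₀
  proj_surjective : Function.Surjective proj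
  map_ideal : (ideal.map (algebraMap (MvPolynomial (Fin n) base)
    (SOf base (MvPolynomial (Fin n) base) A₀))).map proj = J
  /-- The presentation of the module. -/
  equiv : MOf base (MvPolynomial (Fin n) base) ((Fin m → MvPolynomial (Fin n) base) ⧸ rel) A₀ ≃ₗ[A₀] M₀
  equiv_smul : ∀ s x, equiv (s • x) = proj s • equiv x

attribute [local instance] MvPolynomial.algebraMvPolynomial

set_option synthInstance.maxHeartbeats 200000 in
set_option maxHeartbeats 1000000 in
theorem exists_model [Algebra.FinitePresentation A₀ B₀] (hJ : J.FG) [Module.FinitePresentation B₀ M₀] :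
    Nonempty (Model A₀ J M₀) := by
  classical
  obtain ⟨n, π₀, hπ₀, -⟩ := Algebra.FinitePresentation.out (R := A₀) (A := B₀)
  obtain ⟨r, b, hb⟩ := Submodule.fg_iff_exists_fin_generating_family.1 hJ
  let π : MvPolynomial (Fin (n + r)) A₀ →ₐ[A₀] B₀ :=
    MvPolynomial.aeval (Fin.append (fun i => π₀ (MvPolynomial.X i)) b)
  have hπ : Function.Surjective π := by
    have hcomp : π.comp (MvPolynomial.rename (Fin.castAdd r)) = π₀ :=
      MvPolynomial.algHom_ext fun i => by simp [π]
    intro y
    obtain ⟨x, rfl⟩ := hπ₀ y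
    exact ⟨_, AlgHom.congr_fun hcomp x⟩
  let : Algebra (MvPolynomial (Fin (n + r)) A₀) B₀ := π.toRingHom.toAlgebra
  let : Module (MvPolynomial (Fin (n + r)) A₀) M₀ := Module.compHom M₀ π.toRingHom
  have : IsScalarTower (MvPolynomial (Fin (n + r)) A₀) B₀ M₀ :=
    IsScalarTower.of_algebraMap_smul fun _ _ => rfl
  have : IsScalarTower A₀ (MvPolynomial (Fin (n + r)) A₀) M₀ :=
    IsScalarTower.of_algebraMap_smul fun a x => by
      show π (algebraMap A₀ _ a) • x = a • x
      rw [AlgHom.commutes, algebraMap_smul]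
  have hker : (LinearMap.ker (Algebra.linearMap (MvPolynomial (Fin (n + r)) A₀) B₀)).FG := by
    exact Algebra.FinitePresentation.ker_fG_of_surjective π hπ
  have : Module.FinitePresentation (MvPolynomial (Fin (n + r)) A₀) B₀ :=
    Module.finitePresentation_of_surjective (Algebra.linearMap _ B₀) hπ hker
  have : Module.FinitePresentation (MvPolynomial (Fin (n + r)) A₀) M₀ :=
    Module.FinitePresentation.trans B₀ (R := MvPolynomial (Fin (n + r)) A₀) (M := M₀)
  obtain ⟨m, K, e, t, ht⟩ := Module.FinitePresentation.exists_fin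
    (R := MvPolynomial (Fin (n + r)) A₀) (M := M₀)
  let coe : Set A₀ := ⋃ (v ∈ (t : Set (Fin m → MvPolynomial (Fin (n + r)) A₀))) (i : Fin m),
    ((v i).coeffs : Set A₀)
  have hfin : coe.Finite :=
    t.finite_toSet.biUnion fun v _ => Set.finite_iUnion fun i => Finset.finite_toSet _
  let R₀ : Subalgebra ℤ A₀ := Algebra.adjoin ℤ coe
  let S₀ := MvPolynomial (Fin (n + r)) R₀
  have hlift : ∀ v ∈ t, ∀ i, ∃ q : S₀, MvPolynomial.map (algebraMap R₀ A₀) q = v i := by
    intro v hv i
    refine MvPolynomial.mem_range_map_iff_coeffs_subset.2 ?_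
    intro x hx
    exact ⟨⟨x, Algebra.subset_adjoin (Set.mem_biUnion hv (Set.mem_iUnion.mpr ⟨i, hx⟩))⟩, rfl⟩
  choose! v₀ hv₀ using hlift
  let k₀ : t → Fin m → S₀ := fun v i => v₀ v.1 i
  let : Module S₀ M₀ := Module.compHom M₀ (algebraMap S₀ (MvPolynomial (Fin (n + r)) A₀))
  have : IsScalarTower S₀ (MvPolynomial (Fin (n + r)) A₀) M₀ :=
    IsScalarTower.of_algebraMap_smul fun _ _ => rfl
  have hK : K = Submodule.span _ (Set.range fun j => fun i =>
      algebraMap S₀ (MvPolynomial (Fin (n + r)) A₀) (k₀ j i)) := by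
    rw [← ht]
    refine congrArg (Submodule.span _) ?_
    ext v
    exact ⟨fun hv => ⟨⟨v, hv⟩, funext fun i => hv₀ v hv i⟩, by
      rintro ⟨⟨w, hw⟩, rfl⟩
      have : (fun i => algebraMap S₀ (MvPolynomial (Fin (n + r)) A₀) (k₀ ⟨w, hw⟩ i)) = w :=
        funext fun i => hv₀ w hw i
      simp only [this]
      exact Finset.mem_coe.mpr hw⟩
  obtain ⟨f, hf⟩ := isBaseChange_quotient_span k₀ K e hK
  let φ := pushoutAlgEquiv R₀ A₀ S₀ (MvPolynomial (Fin (n + r)) A₀)
  have hφ : ∀ a, φ (algebraMap A₀ (SOf R₀ S₀ A₀) a) = algebraMap A₀ _ a := fun a =>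
    pushoutAlgEquiv_algebraMap a
  let p : SOf R₀ S₀ A₀ →ₐ[A₀] B₀ :=
    { π.toRingHom.comp φ.toAlgHom.toRingHom with
      commutes' := fun a => by
        show π (φ (algebraMap A₀ _ a)) = _
        rw [hφ, AlgHom.commutes] }
  refine ⟨{ base := R₀, base_fg := Subalgebra.fg_def.2 ⟨coe, hfin, rfl⟩, n := n + r, m := m,
            rel := Submodule.span S₀ (Set.range k₀),
            ideal := Ideal.span (Set.range fun j : Fin r => MvPolynomial.X (Fin.natAdd n j)),
            proj := p, proj_surjective := hπ.comp φ.surjective, map_ideal := ?_,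
            equiv := pushoutModuleEquiv' hf, equiv_smul := fun s x => ?_ }⟩
  · rw [Ideal.map_span, Ideal.map_span, ← hb]
    refine congrArg Ideal.span ?_
    rw [← Set.range_comp, ← Set.range_comp]
    refine congrArg Set.range (funext fun j => ?_)
    show π (φ (algebraMap S₀ _ (MvPolynomial.X (Fin.natAdd n j)))) = b j
    rw [φ.commutes]
    simp [π, S₀]
  · exact pushoutModuleEquiv_smul hf s x

variable {A₀ J M₀}

namespace Model

variable (D : Model A₀ J M₀)

/-- The polynomial ring of the model. -/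
abbrev ring : Type u := MvPolynomial (Fin D.n) D.base

/-- The module of the model. -/
abbrev mod : Type u := (Fin D.m → D.ring) ⧸ D.rel

omit [IsScalarTower A₀ B₀ M₀] in
theorem isNoetherianRing_base : IsNoetherianRing D.base :=
  have : Algebra.FiniteType ℤ D.base := (Subalgebra.fg_iff_finiteType _).mp D.base_fg
  Algebra.FiniteType.isNoetherianRing ℤ D.base

/-- A truncation is a base change of the one of the model. -/
noncomputable def quoEquiv (k : ℕ) :
    Quo A₀ J M₀ k ≃ₗ[A₀] A₀ ⊗[D.base] Quo D.base D.ideal D.mod k :=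
  quoEquivOf D.base D.proj D.proj_surjective D.ideal D.map_ideal D.equiv D.equiv_smul k

theorem flat_iff (k : ℕ) (C : Type u) [CommRing C] [Algebra A₀ C] :
    Module.Flat C (C ⊗[A₀] Quo A₀ J M₀ k) ↔ Module.Flat C (C ⊗[D.base] Quo D.base D.ideal D.mod k) :=
  Module.Flat.equiv_iff ((AlgebraTensorModule.congr (LinearEquiv.refl C C) (D.quoEquiv k)).trans
    (AlgebraTensorModule.cancelBaseChange D.base A₀ C C _))

end Model

end Model

end Groth.Ega43Gr
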