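import Groth.Agent.FlatMorOne.FlatLocusNoeth
import Groth.Agent.FlatMorOne.FlatLocusDescent

/-! The common flat locus of the summands of a finite module over a finite type algebra. -/

set_option autoImplicit false

universe u

open TensorProduct

namespace Groth.Ega43Gr

set_option maxHeartbeats 1000000 in
/-- The primes at which all the summands `P k` of `W` are flat form an open set. -/
theorem isOpen_flatLocus_summands {C : Type u} [CommRing C] [IsNoetherianRing C] (S₀ : Type u) [CommRing S₀]
    [Algebra C S₀] [Algebra.FiniteType C S₀] (W : Type u) [AddCommGroup W] [Module C W] [Module S₀ W]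
    [IsScalarTower C S₀ W] [Module.Finite S₀ W] (P : ℕ → Type u) [∀ k, AddCommGroup (P k)]
    [∀ k, Module C (P k)] [∀ k, Module.Finite C (P k)] (jn : ∀ k, P k →ₗ[C] W) (cn : ∀ k, W →ₗ[C] P k)
    (hcj : ∀ k x, cn k (jn k x) = x)
    (hsum : ∀ w, ∃ N, ∀ n, N ≤ n → ∑ k ∈ Finset.range n, jn k (cn k w) = w) :
    IsOpen {p : PrimeSpectrum C | ∀ k, Module.Flat C (LocalizedModule p.asIdeal.primeCompl (P k))} := by
  classical
  have : IsNoetherianRing S₀ := Algebra.FiniteType.isNoetherianRing C S₀
  refine FlatMorOne.isOpen_of_nagata _ (fun a b hab hb k => ?_) fun a ha => ?_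
  · have := hb k
    exact FlatMorOne.flat_localized_of_le hab
  let p := a.asIdeal
  obtain ⟨g, hg, ι, Ψ, hinj, hsurj⟩ := FlatMorOne.exists_free_mod_prime S₀ W p
  have : Module.Finite C p := Module.Finite.iff_fg.mpr (IsNoetherian.noetherian p)
  have := FlatMorOne.finite_tensor_left (R := C) (S := S₀) (M := W) (J := p)
  let F : W ⊗[C] p →ₗ[S₀] W ⊗[C] C := AlgebraTensorModule.lTensor S₀ W p.subtype
  obtain ⟨t, ht⟩ : (LinearMap.ker F).FG := IsNoetherian.noetherian _
  have hproj : ∀ (k : ℕ) {X Y : Type u} [AddCommGroup X] [Module C X] [AddCommGroup Y] [Module C Y]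
      (f : X →ₗ[C] Y) (z : W ⊗[C] X), f.lTensor (P k) ((cn k).rTensor X z) = (cn k).rTensor Y (f.lTensor W z) := by
    intro k X Y _ _ _ _ f z
    rw [← LinearMap.comp_apply, ← LinearMap.comp_apply, LinearMap.lTensor_comp_rTensor,
      LinearMap.rTensor_comp_lTensor]
  have hsum' : ∀ z : W ⊗[C] p, ∃ N, ∀ n, N ≤ n →
      ∑ k ∈ Finset.range n, (jn k).rTensor p ((cn k).rTensor p z) = z := by
    intro z
    induction z with
    | zero => exact ⟨0, fun n _ => by simp⟩
    | tmul w x =>
      obtain ⟨N, hN⟩ := hsum w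
      exact ⟨N, fun n hn => by simp only [LinearMap.rTensor_tmul, ← sum_tmul, hN n hn]⟩
    | add x y hx hy =>
      obtain ⟨N, hN⟩ := hx
      obtain ⟨N', hN'⟩ := hy
      exact ⟨max N N', fun n hn => by
        simp only [map_add, Finset.sum_add_distrib, hN n ((le_max_left _ _).trans hn),
          hN' n ((le_max_right _ _).trans hn)]⟩
  have hkill : ∀ z ∈ t, ∃ s ∉ p, s • z = 0 := by
    intro z hz
    have hz0 : p.subtype.lTensor W z = 0 := LinearMap.mem_ker.mp (ht ▸ Submodule.subset_span hz :)
    have hk : ∀ k, ∃ s ∉ p, s • (cn k).rTensor p z = 0 := fun k => by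
      have := ha k
      exact FlatMorOne.exists_smul_eq_zero_of_flat_localized (R := C) (S := C) p p.subtype
        Subtype.val_injective _ (by rw [hproj, hz0, map_zero])
    choose s hs hsz using hk
    obtain ⟨N, hN⟩ := hsum' z
    refine ⟨∏ k ∈ Finset.range N, s k, fun h => ?_, ?_⟩
    · obtain ⟨k, _, hk⟩ := a.isPrime.prod_mem_iff.mp h
      exact hs k hk
    · rw [← hN N le_rfl, Finset.smul_sum]
      refine Finset.sum_eq_zero fun k hk => ?_
      rw [← map_smul, ← Finset.prod_erase_mul _ _ hk, mul_smul, hsz, smul_zero, map_zero]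
  choose! s hs hsz using hkill
  refine ⟨g * ∏ z ∈ t, s z, ?_, fun b hab hb k => ?_⟩
  · intro hmem
    rcases a.isPrime.mem_or_mem hmem with h | h
    · exact hg h
    · obtain ⟨z, hz, hzs⟩ := a.isPrime.prod_mem_iff.mp h
      exact hs z hz hzs
  refine FlatMorOne.flat_localizedModule_of_killed (S := C) p b.asIdeal
    (by rwa [Algebra.algebraMap_self, Ideal.map_id]) (fun z hz => ?_) (fun J z hz => ?_)
  · refine ⟨∏ w ∈ t, s w, fun h => hb (Ideal.mul_mem_left _ _ h), ?_⟩
    have hzW : (jn k).rTensor p z ∈ LinearMap.ker F := by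
      show p.subtype.lTensor W ((jn k).rTensor p z) = 0
      rw [← LinearMap.comp_apply, LinearMap.lTensor_comp_rTensor, ← LinearMap.rTensor_comp_lTensor,
        LinearMap.comp_apply, hz, map_zero]
    rw [← ht] at hzW
    have hk : ∀ w ∈ Submodule.span S₀ (t : Set (W ⊗[C] p)), (∏ w ∈ t, s w) • w = 0 := by
      intro w hw
      induction hw using Submodule.span_induction with
      | mem w hw => rw [← Finset.prod_erase_mul _ _ hw, mul_smul, hsz w hw, smul_zero]
      | zero => rw [smul_zero]
      | add x y _ _ hx hy => rw [smul_add, hx, hy, add_zero]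
      | smul c x _ hx => rw [smul_comm, hx, smul_zero]
    have h0 := congrArg ((cn k).rTensor p) (hk _ hzW)
    rwa [map_smul, map_zero, ← LinearMap.rTensor_comp_apply,
      show cn k ∘ₗ jn k = LinearMap.id from LinearMap.ext (hcj k), LinearMap.rTensor_id,
      LinearMap.id_apply] at h0
  · have hzW : (Submodule.map p.mkQ J).subtype.lTensor W ((jn k).rTensor _ z) = 0 := by
      rw [← LinearMap.comp_apply, LinearMap.lTensor_comp_rTensor, ← LinearMap.rTensor_comp_lTensor,
        LinearMap.comp_apply, hz, map_zero]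
    obtain ⟨l, hl⟩ := FlatMorOne.exists_pow_smul_eq_zero_of_free_mod p g Ψ hinj hsurj J _ hzW
    refine ⟨g ^ l, fun h => hb (Ideal.mul_mem_right _ _ (b.isPrime.mem_of_pow_mem _ h)), ?_⟩
    have h0 := congrArg ((cn k).rTensor _) hl
    rwa [map_smul, map_zero, ← LinearMap.rTensor_comp_apply,
      show cn k ∘ₗ jn k = LinearMap.id from LinearMap.ext (hcj k), LinearMap.rTensor_id,
      LinearMap.id_apply] at h0

end Groth.Ega43Gr
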