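import Groth.Agent.Ega43Gr.Gr
import Groth.Agent.Ega43Gr.OpenSummands

/-! Openness of the locus of normal flatness. -/

set_option autoImplicit false

universe u

open TensorProduct Groth.FlatMorOne

namespace Groth.Ega43Gr

attribute [local instance] Algebra.TensorProduct.rightAlgebra

/-- Localizations of isomorphic modules. -/
theorem flat_localized_congr {C X Y : Type u} [CommRing C] [AddCommGroup X] [Module C X] [AddCommGroup Y]
    [Module C Y] (e : X ≃ₗ[C] Y) (p : Ideal C) [p.IsPrime] :
    Module.Flat C (LocalizedModule p.primeCompl X) ↔ Module.Flat C (LocalizedModule p.primeCompl Y) :=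
  Module.Flat.equiv_iff <|
    ((LocalizedModule.equivTensorProduct p.primeCompl X).restrictScalars C).trans <|
      (e.lTensor (Localization p.primeCompl)).trans
        ((LocalizedModule.equivTensorProduct p.primeCompl Y).symm.restrictScalars C)

/-- Localizing and reducing modulo an ideal commute. -/
theorem flat_tensor_localized_iff {B : Type u} [CommRing B] (J : Ideal B) (G : Type u) [AddCommGroup G]
    [Module B G] (qb : Ideal (B ⧸ J)) [qb.IsPrime] :
    Module.Flat (B ⧸ J) ((B ⧸ J) ⊗[B] LocalizedModule (qb.comap (Ideal.Quotient.mk J)).primeCompl G) ↔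
      Module.Flat (B ⧸ J) (LocalizedModule qb.primeCompl ((B ⧸ J) ⊗[B] G)) := by
  let C := B ⧸ J
  let q := qb.comap (Ideal.Quotient.mk J)
  let g : G →ₗ[B] LocalizedModule q.primeCompl G := LocalizedModule.mkLinearMap q.primeCompl G
  let r : G ⊗[B] C →ₗ[B] LocalizedModule q.primeCompl G ⊗[B] C := AlgebraTensorModule.rTensor B C g
  have hr : IsLocalizedModule q.primeCompl r := inferInstanceAs (IsLocalizedModule q.primeCompl (AlgebraTensorModule.rTensor B C g))
  let f₁ : C ⊗[B] G →ₗ[B] C ⊗[B] LocalizedModule q.primeCompl G :=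
    ((TensorProduct.comm B (LocalizedModule q.primeCompl G) C).toLinearMap ∘ₗ r) ∘ₗ
      (TensorProduct.comm B C G).toLinearMap
  have h₁ : IsLocalizedModule q.primeCompl f₁ := by
    have : IsLocalizedModule q.primeCompl
        ((TensorProduct.comm B (LocalizedModule q.primeCompl G) C).toLinearMap ∘ₗ r) :=
      IsLocalizedModule.of_linearEquiv _ _ _
    exact IsLocalizedModule.of_linearEquiv_right _ _ _
  let m := LocalizedModule.mkLinearMap qb.primeCompl (C ⊗[B] G)
  let f₂ : C ⊗[B] G →ₗ[B] LocalizedModule qb.primeCompl (C ⊗[B] G) := m.restrictScalars B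
  have hmem : ∀ s : q.primeCompl, Ideal.Quotient.mk J (s : B) ∈ qb.primeCompl := fun s => s.2
  have h₂ : IsLocalizedModule q.primeCompl f₂ := by
    constructor
    · intro s
      rw [Module.End.isUnit_iff]
      have := (Module.End.isUnit_iff _).1 (IsLocalizedModule.map_units m ⟨_, hmem s⟩)
      convert this using 1
      ext x
      exact (algebraMap_smul C (s : B) x).symm
    · intro y
      obtain ⟨⟨x, t⟩, ht⟩ := IsLocalizedModule.surj qb.primeCompl m y
      obtain ⟨s, hs⟩ := Ideal.Quotient.mk_surjective (t : C)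
      have hsq : s ∈ q.primeCompl := fun h => t.2 (by rw [← hs]; exact h)
      refine ⟨⟨x, ⟨s, hsq⟩⟩, ?_⟩
      show s • y = m x
      rw [← algebraMap_smul C s y, Ideal.Quotient.algebraMap_eq, hs]
      exact ht
    · intro x y hxy
      obtain ⟨t, ht⟩ := IsLocalizedModule.exists_of_eq (S := qb.primeCompl) (f := m) hxy
      obtain ⟨s, hs⟩ := Ideal.Quotient.mk_surjective (t : C)
      have hsq : s ∈ q.primeCompl := fun h => t.2 (by rw [← hs]; exact h)
      refine ⟨⟨s, hsq⟩, ?_⟩
      show s • x = s • y
      rw [← algebraMap_smul C s x, ← algebraMap_smul C s y, Ideal.Quotient.algebraMap_eq, hs]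
      exact ht
  let e := IsLocalizedModule.linearEquiv q.primeCompl f₁ f₂
  exact Module.Flat.equiv_iff
    { e with
      map_smul' := fun c x => by
        obtain ⟨b, rfl⟩ := Ideal.Quotient.mk_surjective c
        show e (algebraMap B C b • x) = algebraMap B C b • e x
        rw [algebraMap_smul, algebraMap_smul, map_smul] }

/-- A quotient of a pushout is a pushout. -/
theorem isPushout_quotient {S B : Type u} [CommRing S] [CommRing B] [Algebra S B] (I : Ideal S)
    [Algebra (S ⧸ I) (B ⧸ I.map (algebraMap S B))] [IsScalarTower S (S ⧸ I) (B ⧸ I.map (algebraMap S B))] :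
    Algebra.IsPushout S B (S ⧸ I) (B ⧸ I.map (algebraMap S B)) := by
  rw [Algebra.isPushout_iff]
  refine IsBaseChange.of_equiv
    (Algebra.TensorProduct.quotIdealMapEquivTensorQuot B I).symm.toLinearEquiv fun x => ?_
  obtain ⟨s, rfl⟩ := Ideal.Quotient.mk_surjective x
  show (Algebra.TensorProduct.quotIdealMapEquivTensorQuot B I).symm ((1 : B) ⊗ₜ[S] Ideal.Quotient.mk I s) =
    algebraMap (S ⧸ I) (B ⧸ I.map (algebraMap S B)) (algebraMap S (S ⧸ I) s)
  rw [← IsScalarTower.algebraMap_apply, AlgEquiv.symm_apply_eq, IsScalarTower.algebraMap_apply S B (B ⧸ _),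
    Ideal.Quotient.algebraMap_eq, Algebra.TensorProduct.quotIdealMapEquivTensorQuot_mk,
    Algebra.algebraMap_eq_smul_one s, smul_tmul, ← Algebra.algebraMap_eq_smul_one]
  rfl

/-- The set of primes at which `M` is normally flat along `V(J)`. -/
def normalSet {B : Type u} [CommRing B] (J : Ideal B) (M : Type u) [AddCommGroup M] [Module B M] :
    Set (PrimeSpectrum B) :=
  {q | J ≤ q.asIdeal → ∀ k : ℕ,
    Module.Flat (B ⧸ J) ((B ⧸ J) ⊗[B] LocalizedModule q.asIdeal.primeCompl (GrPiece J M k))}

set_option maxHeartbeats 1000000 in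
set_option synthInstance.maxHeartbeats 200000 in
/-- The summands of the graded module of a finite module over a Noetherian ring are flat on an open set. -/
theorem isOpen_flat_grPieces {S : Type u} [CommRing S] [IsNoetherianRing S] (I : Ideal S) (N : Type u)
    [AddCommGroup N] [Module S N] [Module.Finite S N] :
    IsOpen {p : PrimeSpectrum (S ⧸ I) |
      ∀ k, Module.Flat (S ⧸ I) (LocalizedModule p.asIdeal.primeCompl ((S ⧸ I) ⊗[S] GrPiece I N k))} := by
  have := finite_rees S I N
  have := finiteType_reesAlgebra S I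
  have hfin : ∀ k, Module.Finite S ↥(Fil S I N k) := fun k =>
    Module.Finite.iff_fg.2 (IsNoetherian.noetherian _)
  have hopen := isOpen_flatLocus_summands (C := S ⧸ I) (SR S I (S ⧸ I)) (VR S I N (S ⧸ I))
    (fun k => (S ⧸ I) ⊗[S] ↥(Fil S I N k)) (fun k => incR S I N (S ⧸ I) k) (fun k => coefR S I N (S ⧸ I) k)
    (fun k x => coefR_incR_self S I N (S ⧸ I) k x) (exists_sum_incR_coefR S I N (S ⧸ I))
  convert hopen using 1
  ext p
  exact forall_congr' fun k => (flat_localized_congr (grTensorEquiv I N k) p.asIdeal).symm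

section Model

variable {R A S B N M : Type u} [CommRing R] [IsNoetherianRing R] [CommRing A] [CommRing S] [CommRing B]
  [Algebra R A] [Algebra R S] [Algebra.FiniteType R S] [Algebra A B] [Algebra S B] [Algebra R B]
  [IsScalarTower R A B] [IsScalarTower R S B] [hpush : Algebra.IsPushout R A S B]
  [AddCommGroup N] [Module R N] [Module S N] [IsScalarTower R S N] [Module.Finite S N]
  [AddCommGroup M] [Module S M] [Module B M] [IsScalarTower S B M] (I : Ideal S)
  {f : N →ₗ[S] M} (hf : IsBaseChange B f)

set_option maxHeartbeats 2000000 in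
set_option synthInstance.maxHeartbeats 200000 in
variable (R A) in
include hpush hf in
/-- Openness for a model with flat truncations. -/
theorem isOpen_normalSet_of_flat_model (hflat : ∀ n, Module.Flat R (N ⧸ I ^ n • (⊤ : Submodule S N))) :
    IsOpen (normalSet (I.map (algebraMap S B)) M) := by
  have : IsNoetherianRing S := Algebra.FiniteType.isNoetherianRing R S
  let J := I.map (algebraMap S B)
  let C := B ⧸ J
  let C' := S ⧸ I
  let : Algebra C' C := (Ideal.quotientMap J (algebraMap S B) Ideal.le_comap_map).toAlgebra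
  have : IsScalarTower S C' C := IsScalarTower.of_algebraMap_eq fun s => rfl
  have : IsScalarTower R C' C := IsScalarTower.of_algebraMap_eq fun r => by
    rw [IsScalarTower.algebraMap_apply R S C, IsScalarTower.algebraMap_apply R S C',
      ← IsScalarTower.algebraMap_apply S C' C]
  have : Algebra.IsPushout S B C' C := isPushout_quotient I
  have : Algebra.IsPushout R A C' C := by
    have h1 : Algebra.IsPushout R S A B := Algebra.IsPushout.symm inferInstance
    have h2 : Algebra.IsPushout S C' B C := Algebra.IsPushout.symm inferInstance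
    exact Algebra.IsPushout.symm ((Algebra.IsPushout.comp_iff R S A B (T := C') (T' := C)).2 h2)
  have hgrflat : ∀ k, Module.Flat R (C' ⊗[S] GrPiece I N k) := fun k => by
    have := flat_grPiece I N hflat k
    exact Module.Flat.of_linearEquiv (((TensorProduct.quotTensorEquivQuotSMul (GrPiece I N k) I).trans
      (Submodule.quotEquivOfEqBot _ (smul_grPiece_eq_zero I N k))).restrictScalars R)
  have hfin : ∀ k, Module.Finite S (GrPiece I N k) := fun k => by
    have : Module.Finite S ↥(I ^ k • (⊤ : Submodule S N)) :=
      Module.Finite.iff_fg.2 (IsNoetherian.noetherian _)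
    infer_instance
  let eH : ∀ k, C ⊗[B] GrPiece J M k ≃ₗ[C] C ⊗[C'] (C' ⊗[S] GrPiece I N k) := fun k =>
    have := hflat k
    (AlgebraTensorModule.congr (LinearEquiv.refl C C) (grEquiv R A I hf k).symm).trans <|
      (AlgebraTensorModule.cancelBaseChange S B C C (GrPiece I N k)).trans
        (AlgebraTensorModule.cancelBaseChange S C' C C (GrPiece I N k)).symm
  let U' := {p : PrimeSpectrum C' |
    ∀ k, Module.Flat C' (LocalizedModule p.asIdeal.primeCompl (C' ⊗[S] GrPiece I N k))}
  have hU' : IsOpen U' := isOpen_flat_grPieces I N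
  let U := PrimeSpectrum.comap (algebraMap C' C) ⁻¹' U'
  have hU : IsOpen U := hU'.preimage (PrimeSpectrum.continuous_comap _)
  have hmem : ∀ p : PrimeSpectrum C, p ∈ U ↔
      ∀ k, Module.Flat C (LocalizedModule p.asIdeal.primeCompl (C ⊗[B] GrPiece J M k)) := by
    intro p
    refine forall_congr' fun k => ?_
    rw [flat_localized_congr (eH k) p.asIdeal]
    constructor
    · intro h
      have : Module.Flat C' (LocalizedModule (p.asIdeal.comap (algebraMap C' C)).primeCompl
          (C' ⊗[S] GrPiece I N k)) := h
      exact flat_localized_baseChange (algebraMap C' C)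
        (TensorProduct.isBaseChange C' (C' ⊗[S] GrPiece I N k) C) (fun s m => by
          rw [map_smul, algebraMap_smul]) p.asIdeal
    · intro h
      have := hgrflat k
      exact flat_localized_of_baseChange (R := R) (A := A) (H := C' ⊗[S] GrPiece I N k) p.asIdeal
  obtain ⟨O, hO, hOU⟩ := (PrimeSpectrum.isClosedEmbedding_comap_of_surjective C (Ideal.Quotient.mk J)
    Ideal.Quotient.mk_surjective).isInducing.isOpen_iff.1 hU
  have heq : normalSet J M = O ∪ (PrimeSpectrum.zeroLocus (J : Set B))ᶜ := by
    ext q
    by_cases hq : J ≤ q.asIdeal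
    · obtain ⟨p, rfl⟩ : ∃ p : PrimeSpectrum C, PrimeSpectrum.comap (Ideal.Quotient.mk J) p = q := by
        have hr : q ∈ Set.range (PrimeSpectrum.comap (Ideal.Quotient.mk J)) := by
          rw [range_comap_of_surjective C _ Ideal.Quotient.mk_surjective, Ideal.mk_ker]
          exact hq
        exact hr
      have h1 : PrimeSpectrum.comap (Ideal.Quotient.mk J) p ∈ normalSet J M ↔ p ∈ U := by
        rw [hmem]
        refine (imp_iff_right hq).trans (forall_congr' fun k => ?_)
        exact flat_tensor_localized_iff J (GrPiece J M k) p.asIdeal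
      rw [h1, ← hOU]
      exact ⟨fun h => Or.inl h, fun h => h.resolve_right fun h' => h' hq⟩
    · exact ⟨fun _ => Or.inr hq, fun _ h => absurd h hq⟩
  show IsOpen (normalSet J M)
  rw [heq]
  exact hO.union (PrimeSpectrum.isClosed_zeroLocus _).isOpen_compl

set_option maxHeartbeats 2000000 in
set_option synthInstance.maxHeartbeats 200000 in
variable (R A) in
include hpush hf in
/-- Openness for a model with flat truncations over the top ring. -/
theorem isOpen_normalSet_of_model (h : AllFlat R I N A) :
    IsOpen (normalSet (I.map (algebraMap S B)) M) := by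
  obtain ⟨R', hR', hflat⟩ := exists_stage_allFlat R I N A h
  have : Algebra.FiniteType R R' := (Subalgebra.fg_iff_finiteType R').mp hR'
  have : IsNoetherianRing R' := Algebra.FiniteType.isNoetherianRing R R'
  let σ := stageAlgHom R A S B R'
  let : Algebra (SOf R S R') B := σ.toRingHom.toAlgebra
  have : IsScalarTower S (SOf R S R') B := IsScalarTower.of_algebraMap_eq fun x => (σ.commutes x).symm
  have : IsScalarTower R' (SOf R S R') B := IsScalarTower.of_algebraMap_eq fun r => by
    show algebraMap R' B r = stageAlgHom R A S B R' (algebraMap R' (SOf R S R') r)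
    simp [stageAlgHom, pushoutAlgEquiv_tmul, IsScalarTower.algebraMap_apply R' A B]
  have : IsScalarTower R (SOf R S R') B := IsScalarTower.of_algebraMap_eq fun r => by
    rw [IsScalarTower.algebraMap_apply R S B, IsScalarTower.algebraMap_apply R S (SOf R S R'),
      ← IsScalarTower.algebraMap_apply S (SOf R S R') B]
  have : Algebra.IsPushout R R' S (SOf R S R') := TensorProduct.isPushout
  have : Algebra.IsPushout R' A (SOf R S R') B :=
    (Algebra.IsPushout.comp_iff R R' S (SOf R S R') (T := A) (T' := B)).1 inferInstance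
  let : Module (SOf R S R') M := Module.compHom M (algebraMap (SOf R S R') B)
  have : IsScalarTower (SOf R S R') B M := IsScalarTower.of_algebraMap_smul fun _ _ => rfl
  have : IsScalarTower S (SOf R S R') M := IsScalarTower.of_algebraMap_smul fun x m => by
    show algebraMap (SOf R S R') B (algebraMap S (SOf R S R') x) • m = x • m
    rw [← IsScalarTower.algebraMap_apply, algebraMap_smul]
  let N' := MOf R S N R'
  let f' : N' →ₗ[SOf R S R'] M := f.liftBaseChange (SOf R S R')
  have hf' : IsBaseChange B f' :=
    IsBaseChange.of_comp (TensorProduct.isBaseChange S N (SOf R S R')) (by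
      have : f'.restrictScalars S ∘ₗ TensorProduct.mk S (SOf R S R') N 1 = f :=
        LinearMap.ext fun n => by
        show f.liftBaseChange (SOf R S R') ((1 : SOf R S R') ⊗ₜ n) = f n
        rw [LinearMap.liftBaseChange_tmul, one_smul]
      rw [this]
      exact hf)
  have hflat' : ∀ n, Module.Flat R'
      (N' ⧸ (I.map (algebraMap S (SOf R S R'))) ^ n • (⊤ : Submodule (SOf R S R') N')) := fun n => by
    rw [← Ideal.map_pow]
    have := hflat n
    exact Module.Flat.of_linearEquiv <| ((quoBaseChange (I ^ n)).restrictScalars R').trans <|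
      (Algebra.IsPushout.cancelBaseChange R R' S (SOf R S R') _).trans <|
        AlgebraTensorModule.congr (LinearEquiv.refl R' R') (Submodule.Quotient.restrictScalarsEquiv R _).symm
  have := isOpen_normalSet_of_flat_model R' A (I.map (algebraMap S (SOf R S R'))) hf' hflat'
  rwa [Ideal.map_map, ← IsScalarTower.algebraMap_eq] at this

omit [IsNoetherianRing R] [Algebra.FiniteType R S] [Module.Finite S N] in
variable (R A) in
include hpush hf in
/-- Flat truncations descend to the model. -/
theorem allFlat_model [Module A M] [IsScalarTower A B M] (h : AllFlat A (I.map (algebraMap S B)) M A) :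
    AllFlat R I N A := by
  intro k
  let φ : SOf R S A →ₐ[A] B :=
    { (pushoutAlgEquiv R A S B).toAlgHom.toRingHom with commutes' := fun a => pushoutAlgEquiv_algebraMap a }
  have hφ : (I.map (algebraMap S (SOf R S A))).map φ = I.map (algebraMap S B) := by
    show Ideal.map φ.toRingHom (I.map (algebraMap S (SOf R S A))) = _
    rw [Ideal.map_map]
    congr 1
    exact RingHom.ext fun x => (pushoutAlgEquiv R A S B).commutes x
  have e := quoEquivOf R φ (pushoutAlgEquiv R A S B).surjective I hφ (pushoutModuleEquiv' hf)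
    (fun s x => pushoutModuleEquiv_smul hf s x) k
  have := h k
  exact Module.Flat.of_linearEquiv (e.symm.trans (TensorProduct.lid A _).symm)

end Model

set_option maxHeartbeats 2000000 in
set_option synthInstance.maxHeartbeats 200000 in
/-- The locus of normal flatness is open when the graded module is flat over the base. -/
theorem isOpen_normalSet {A B : Type u} [CommRing A] [CommRing B] [Algebra A B]
    [Algebra.FinitePresentation A B] (J : Ideal B) (hJ : J.FG)
    (M : Type u) [AddCommGroup M] [Module B M] [Module A M] [IsScalarTower A B M] [Module.FinitePresentation B M]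
    (h : AllFlat A J M A) : IsOpen (normalSet J M) := by
  classical
  obtain ⟨R₀, hR₀, S₀, _, _, _, _, hS₀, hpush, N, _, _, _, _, _, _, f, hN, hf⟩ := exists_models A B M
  have : IsNoetherianRing R₀ := Algebra.FiniteType.isNoetherianRing ℤ R₀
  obtain ⟨t, ht⟩ := hJ
  choose At hAt y hy using fun b : B => exists_sMap_eq R₀ S₀ ((pushoutAlgEquiv R₀ A S₀ B).symm b)
  let R₁ := t.sup At
  have hR₁ : R₁.FG := Finset.sup_induction Subalgebra.fg_bot (fun a ha b hb => ha.sup hb) fun b _ => hAt b
  have : Algebra.FiniteType R₀ R₁ := (Subalgebra.fg_iff_finiteType R₁).mp hR₁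
  have : IsNoetherianRing R₁ := Algebra.FiniteType.isNoetherianRing R₀ R₁
  let S₁ := SOf R₀ S₀ R₁
  let σ := stageAlgHom R₀ A S₀ B R₁
  let : Algebra S₁ B := σ.toRingHom.toAlgebra
  have : IsScalarTower S₀ S₁ B := IsScalarTower.of_algebraMap_eq fun x => (σ.commutes x).symm
  have : IsScalarTower R₁ S₁ B := IsScalarTower.of_algebraMap_eq fun r => by
    show algebraMap R₁ B r = stageAlgHom R₀ A S₀ B R₁ (algebraMap R₁ S₁ r)
    simp [stageAlgHom, S₁, pushoutAlgEquiv_tmul, IsScalarTower.algebraMap_apply R₁ A B]
  have : IsScalarTower R₀ S₁ B := IsScalarTower.of_algebraMap_eq fun r => by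
    rw [IsScalarTower.algebraMap_apply R₀ S₀ B, IsScalarTower.algebraMap_apply R₀ S₀ S₁,
      ← IsScalarTower.algebraMap_apply S₀ S₁ B]
  have : Algebra.IsPushout R₀ R₁ S₀ S₁ := TensorProduct.isPushout
  have : Algebra.IsPushout R₁ A S₁ B :=
    (Algebra.IsPushout.comp_iff R₀ R₁ S₀ S₁ (T := A) (T' := B)).1 inferInstance
  let : Module S₁ M := Module.compHom M (algebraMap S₁ B)
  have : IsScalarTower S₁ B M := IsScalarTower.of_algebraMap_smul fun _ _ => rfl
  have : IsScalarTower S₀ S₁ M := IsScalarTower.of_algebraMap_smul fun x m => by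
    show algebraMap S₁ B (algebraMap S₀ S₁ x) • m = x • m
    rw [← IsScalarTower.algebraMap_apply, algebraMap_smul]
  let N₁ := MOf R₀ S₀ N R₁
  let f₁ : N₁ →ₗ[S₁] M := f.liftBaseChange S₁
  have hf₁ : IsBaseChange B f₁ :=
    IsBaseChange.of_comp (TensorProduct.isBaseChange S₀ N S₁) (by
      have : f₁.restrictScalars S₀ ∘ₗ TensorProduct.mk S₀ S₁ N 1 = f :=
        LinearMap.ext fun n => by
        show f.liftBaseChange S₁ ((1 : S₁) ⊗ₜ n) = f n
        rw [LinearMap.liftBaseChange_tmul, one_smul]
      rw [this]
      exact hf)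
  let I : Ideal S₁ := Ideal.span (Set.range fun b : t =>
    sMap R₀ S₀ (Subalgebra.inclusion (Finset.le_sup (f := At) b.2)) (y b.1))
  have hI : I.map (algebraMap S₁ B) = J := by
    rw [Ideal.map_span, ← ht]
    refine congrArg Ideal.span ?_
    rw [← Set.range_comp]
    ext x
    constructor
    · rintro ⟨⟨b, hb⟩, rfl⟩
      show pushoutAlgEquiv R₀ A S₀ B (sMap R₀ S₀ _ (sMap R₀ S₀ _ (y b))) ∈ _
      rw [sMap_sMap]
      rw [Finset.mem_coe]
      convert hb
      rw [show (IsScalarTower.toAlgHom R₀ R₁ A).comp (Subalgebra.inclusion _) = (At b).val from rfl, hy,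
        AlgEquiv.apply_symm_apply]
    · intro hb
      refine ⟨⟨x, hb⟩, ?_⟩
      show pushoutAlgEquiv R₀ A S₀ B (sMap R₀ S₀ _ (sMap R₀ S₀ _ (y x))) = x
      rw [sMap_sMap, show (IsScalarTower.toAlgHom R₀ R₁ A).comp (Subalgebra.inclusion _) = (At x).val from rfl,
        hy, AlgEquiv.apply_symm_apply]
  subst hI
  have : Module.Finite S₁ N₁ := inferInstance
  exact isOpen_normalSet_of_model R₁ A I hf₁ (allFlat_model R₁ A I hf₁ h)

end Groth.Ega43Gr
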