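import Mathlib.RingTheory.Filtration
import Mathlib.RingTheory.FiniteType
import Mathlib.Algebra.Polynomial.Module.Basic

/-! The Rees module of an adic filtration, with its degree-wise projections. -/

set_option autoImplicit false

universe u

namespace Groth.Ega43Gr

variable (A₀ : Type u) [CommRing A₀] {B₀ : Type u} [CommRing B₀] [Algebra A₀ B₀] (J : Ideal B₀)
  (M₀ : Type u) [AddCommGroup M₀] [Module B₀ M₀] [Module A₀ M₀] [IsScalarTower A₀ B₀ M₀]

/-- `J^k M₀` over `A₀`. -/
abbrev Fil (k : ℕ) : Submodule A₀ M₀ := (J ^ k • (⊤ : Submodule B₀ M₀)).restrictScalars A₀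

theorem fil_succ_le (k : ℕ) : Fil A₀ J M₀ (k + 1) ≤ Fil A₀ J M₀ k := by
  intro x hx
  rw [Submodule.restrictScalars_mem] at hx ⊢
  exact Submodule.smul_mono_left (Ideal.pow_le_pow_right (Nat.le_succ k)) hx

/-- `M₀ / J^k M₀`. -/
abbrev Quo (k : ℕ) : Type u := M₀ ⧸ Fil A₀ J M₀ k

/-- `J^k M₀ → M₀ / J^(k+1) M₀`. -/
noncomputable def psi (k : ℕ) : ↥(Fil A₀ J M₀ k) →ₗ[A₀] Quo A₀ J M₀ (k + 1) :=
  (Fil A₀ J M₀ (k + 1)).mkQ ∘ₗ (Fil A₀ J M₀ k).subtype

/-- `M₀ / J^(k+1) M₀ → M₀ / J^k M₀`. -/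
noncomputable def proj (k : ℕ) : Quo A₀ J M₀ (k + 1) →ₗ[A₀] Quo A₀ J M₀ k :=
  Submodule.factor (fil_succ_le A₀ J M₀ k)

theorem proj_surjective (k : ℕ) : Function.Surjective (proj A₀ J M₀ k) :=
  Submodule.factor_surjective (fil_succ_le A₀ J M₀ k)

theorem exact_psi_proj (k : ℕ) : Function.Exact (psi A₀ J M₀ k) (proj A₀ J M₀ k) := by
  intro z
  obtain ⟨x, rfl⟩ := Submodule.mkQ_surjective _ z
  constructor
  · intro h
    exact ⟨⟨x, (Submodule.Quotient.mk_eq_zero _).1 h⟩, rfl⟩
  · rintro ⟨y, hy⟩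
    rw [← hy]
    exact (Submodule.Quotient.mk_eq_zero _).2 y.2

theorem subsingleton_quo_zero : Subsingleton (Quo A₀ J M₀ 0) := by
  rw [Submodule.Quotient.subsingleton_iff]
  refine eq_top_iff.2 fun x _ => ?_
  show x ∈ J ^ 0 • (⊤ : Submodule B₀ M₀)
  rw [pow_zero, Ideal.one_eq_top, Submodule.top_smul]
  trivial

/-- The filtration `J^(i+1) M₀`. -/
def shiftFil : J.Filtration M₀ where
  N i := J ^ (i + 1) • ⊤
  mono i := Submodule.smul_mono (Ideal.pow_le_pow_right (Nat.le_succ _)) le_rfl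
  smul_le i := by rw [← Submodule.mul_smul, ← pow_succ']

/-- The Rees module. -/
noncomputable abbrev reesSub : Submodule (reesAlgebra J) (PolynomialModule B₀ M₀) :=
  (J.stableFiltration (⊤ : Submodule B₀ M₀)).submodule

/-- The Rees module. -/
abbrev Rees : Type u := ↥(reesSub J M₀)

/-- The target of the Rees module, in degree `k` equal to `M₀ / J^(k+1) M₀`. -/
abbrev ReesQ : Type u := PolynomialModule B₀ M₀ ⧸ (shiftFil J M₀).submodule

/-- The Rees module to its target. -/
noncomputable def reesMap : Rees J M₀ →ₗ[reesAlgebra J] ReesQ J M₀ :=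
  (shiftFil J M₀).submodule.mkQ ∘ₗ (reesSub J M₀).subtype

/-- Degree `k` into the Rees module. -/
noncomputable def inc (k : ℕ) : ↥(Fil A₀ J M₀ k) →ₗ[A₀] Rees J M₀ where
  toFun x := ⟨PolynomialModule.single B₀ k (x : M₀), fun i => by
    show (PolynomialModule.single B₀ k (x : M₀)).coeff i ∈ J ^ i • (⊤ : Submodule B₀ M₀)
    rw [PolynomialModule.coeff_single, Finsupp.single_apply]
    split_ifs with h
    · subst h; exact x.2
    · exact zero_mem _⟩
  map_add' x y := Subtype.ext (by simp)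
  map_smul' a x := Subtype.ext (by
    show PolynomialModule.single B₀ k (a • (x : M₀)) = a • PolynomialModule.single B₀ k (x : M₀)
    rw [← algebraMap_smul B₀ a, PolynomialModule.single_smul, algebraMap_smul])

/-- The degree `k` part of an element of the Rees module. -/
noncomputable def coef (k : ℕ) : Rees J M₀ →ₗ[A₀] ↥(Fil A₀ J M₀ k) where
  toFun w := ⟨(w : PolynomialModule B₀ M₀).coeff k, w.2 k⟩
  map_add' x y := Subtype.ext (by simp)
  map_smul' a x := Subtype.ext (by
    show (a • (x : PolynomialModule B₀ M₀)).coeff k = a • (x : PolynomialModule B₀ M₀).coeff k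
    rfl)

/-- Degree `k` into the target. -/
noncomputable def incQ (k : ℕ) : Quo A₀ J M₀ (k + 1) →ₗ[A₀] ReesQ J M₀ :=
  (Fil A₀ J M₀ (k + 1)).liftQ
    (((shiftFil J M₀).submodule.mkQ.restrictScalars A₀) ∘ₗ
      ((PolynomialModule.lsingle B₀ k).restrictScalars A₀))
    fun x hx => by
      show (shiftFil J M₀).submodule.mkQ (PolynomialModule.lsingle B₀ k x) = 0
      refine (Submodule.Quotient.mk_eq_zero _).2 fun i => ?_
      rw [PolynomialModule.lsingle_apply]
      split_ifs with h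
      · subst h; exact hx
      · exact zero_mem _

/-- The degree `k` part of an element of the target. -/
noncomputable def coefQ (k : ℕ) : ReesQ J M₀ →ₗ[A₀] Quo A₀ J M₀ (k + 1) :=
  (((shiftFil J M₀).submodule.restrictScalars A₀).liftQ
    ((Fil A₀ J M₀ (k + 1)).mkQ ∘ₗ
      { toFun := fun w => w.coeff k
        map_add' := fun _ _ => rfl
        map_smul' := fun _ _ => rfl })
    fun _ hw => (Submodule.Quotient.mk_eq_zero _).2 (hw k)) ∘ₗ
  (Submodule.Quotient.restrictScalarsEquiv A₀ (shiftFil J M₀).submodule).symm.toLinearMap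

theorem coef_inc_self (k : ℕ) (x : ↥(Fil A₀ J M₀ k)) : coef A₀ J M₀ k (inc A₀ J M₀ k x) = x :=
  Subtype.ext (by
    show (PolynomialModule.single B₀ k (x : M₀)).coeff k = x
    rw [PolynomialModule.coeff_single, Finsupp.single_eq_same])

theorem coef_inc_of_ne {j k : ℕ} (h : j ≠ k) (x : ↥(Fil A₀ J M₀ j)) :
    coef A₀ J M₀ k (inc A₀ J M₀ j x) = 0 :=
  Subtype.ext (by
    show (PolynomialModule.single B₀ j (x : M₀)).coeff k = 0
    rw [PolynomialModule.coeff_single, Finsupp.single_eq_of_ne (Ne.symm h)])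

theorem exists_sum_inc_coef (w : Rees J M₀) :
    ∃ N, ∀ n, N ≤ n → ∑ k ∈ Finset.range n, inc A₀ J M₀ k (coef A₀ J M₀ k w) = w := by
  refine ⟨(w : PolynomialModule B₀ M₀).coeff.support.sup id + 1, fun n hn => Subtype.ext ?_⟩
  rw [AddSubmonoidClass.coe_finsetSum]
  refine PolynomialModule.ext ?_
  ext i
  show (∑ k ∈ Finset.range n, PolynomialModule.single B₀ k ((w : PolynomialModule B₀ M₀).coeff k)).coeff i
    = (w : PolynomialModule B₀ M₀).coeff i
  rw [PolynomialModule.coeff_sum, Finsupp.finsetSum_apply]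
  simp only [PolynomialModule.coeff_single, Finsupp.single_apply, Finset.sum_ite_eq', Finset.mem_range]
  split_ifs with h
  · rfl
  · by_contra hne
    have := Finset.le_sup (f := id) (Finsupp.mem_support_iff.2 (Ne.symm hne))
    simp only [id] at this
    omega

theorem reesMap_inc (k : ℕ) (x : ↥(Fil A₀ J M₀ k)) :
    reesMap J M₀ (inc A₀ J M₀ k x) = incQ A₀ J M₀ k (psi A₀ J M₀ k x) := rfl

theorem coefQ_reesMap (k : ℕ) (w : Rees J M₀) :
    coefQ A₀ J M₀ k (reesMap J M₀ w) = psi A₀ J M₀ k (coef A₀ J M₀ k w) := rfl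

variable [IsNoetherianRing A₀] [Algebra.FiniteType A₀ B₀] [Module.Finite B₀ M₀]

omit [Module A₀ M₀] [IsScalarTower A₀ B₀ M₀] in
include A₀ in
theorem finite_rees : Module.Finite (reesAlgebra J) (Rees J M₀) := by
  have : IsNoetherianRing B₀ := Algebra.FiniteType.isNoetherianRing A₀ B₀
  exact Module.Finite.of_fg
    ((Ideal.Filtration.submodule_fg_iff_stable _ fun i => IsNoetherian.noetherian _).mpr
      (Ideal.stableFiltration_stable J ⊤))

omit [Module.Finite B₀ M₀] in
theorem finiteType_reesAlgebra : Algebra.FiniteType A₀ (reesAlgebra J) := by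
  have : IsNoetherianRing B₀ := Algebra.FiniteType.isNoetherianRing A₀ B₀
  exact Algebra.FiniteType.trans (R := A₀) (S := B₀) inferInstance inferInstance

end Groth.Ega43Gr
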