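import Groth.Agent.Ega43Gr.Basic
import Groth.Agent.Ega43Gr.Rees
import Groth.Agent.FlatMorOne.FlatLocusDescent

/-! The kernel of the base changed map out of the Rees module. -/

set_option autoImplicit false

universe u

open TensorProduct Groth.FlatMorOne

namespace Groth.Ega43Gr

variable (A₀ : Type u) [CommRing A₀] {B₀ : Type u} [CommRing B₀] [Algebra A₀ B₀] (J : Ideal B₀)
  (M₀ : Type u) [AddCommGroup M₀] [Module B₀ M₀] [Module A₀ M₀] [IsScalarTower A₀ B₀ M₀]
  (R : Type u) [CommRing R] [Algebra A₀ R]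

attribute [local instance] Algebra.TensorProduct.rightAlgebra

/-- The Rees algebra over `R`. -/
abbrev SR : Type u := SOf A₀ (↥(reesAlgebra J)) R

/-- The Rees module over `R`. -/
abbrev VR : Type u := MOf A₀ (↥(reesAlgebra J)) (Rees J M₀) R

/-- The target over `R`. -/
abbrev QR : Type u := MOf A₀ (↥(reesAlgebra J)) (ReesQ J M₀) R

/-- The Rees map over `R`. -/
noncomputable def reesMapR : VR A₀ J M₀ R →ₗ[SR A₀ J R] QR A₀ J M₀ R :=
  (reesMap J M₀).baseChange (SR A₀ J R)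

/-- Its kernel. -/
noncomputable def kerR : Submodule (SR A₀ J R) (VR A₀ J M₀ R) := LinearMap.ker (reesMapR A₀ J M₀ R)

/-- The degree `k` kernel. -/
noncomputable def kerDeg (k : ℕ) : Submodule R (R ⊗[A₀] ↥(Fil A₀ J M₀ k)) :=
  LinearMap.ker ((psi A₀ J M₀ k).baseChange R)

/-- `R ⊗ Rees ≅` the Rees module over `R`. -/
noncomputable def eqV : R ⊗[A₀] Rees J M₀ ≃ₗ[R] VR A₀ J M₀ R :=
  (isBaseChange_betaOf A₀ (↥(reesAlgebra J)) (Rees J M₀) R).equiv

/-- The same for the target. -/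
noncomputable def eqQ : R ⊗[A₀] ReesQ J M₀ ≃ₗ[R] QR A₀ J M₀ R :=
  (isBaseChange_betaOf A₀ (↥(reesAlgebra J)) (ReesQ J M₀) R).equiv

/-- Degree `k` into the Rees module over `R`. -/
noncomputable def incR (k : ℕ) : R ⊗[A₀] ↥(Fil A₀ J M₀ k) →ₗ[R] VR A₀ J M₀ R :=
  (eqV A₀ J M₀ R).toLinearMap ∘ₗ (inc A₀ J M₀ k).baseChange R

/-- The degree `k` part over `R`. -/
noncomputable def coefR (k : ℕ) : VR A₀ J M₀ R →ₗ[R] R ⊗[A₀] ↥(Fil A₀ J M₀ k) :=
  (coef A₀ J M₀ k).baseChange R ∘ₗ (eqV A₀ J M₀ R).symm.toLinearMap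

theorem reesMapR_eqV (z : R ⊗[A₀] Rees J M₀) :
    reesMapR A₀ J M₀ R (eqV A₀ J M₀ R z) =
      eqQ A₀ J M₀ R (((reesMap J M₀).restrictScalars A₀).baseChange R z) := by
  induction z with
  | zero => simp
  | tmul r x =>
    simp only [eqV, eqQ, LinearMap.baseChange_tmul, IsBaseChange.equiv_tmul, betaOf_apply,
      LinearMap.coe_restrictScalars]
    rw [← algebraMap_smul (SR A₀ J R) r ((1 : SR A₀ J R) ⊗ₜ[↥(reesAlgebra J)] x), map_smul,
      algebraMap_smul]
    rfl
  | add a b ha hb => simp only [map_add, ha, hb]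

theorem coefR_incR_self (k : ℕ) (z : R ⊗[A₀] ↥(Fil A₀ J M₀ k)) :
    coefR A₀ J M₀ R k (incR A₀ J M₀ R k z) = z := by
  simp only [coefR, incR, LinearMap.comp_apply, LinearEquiv.coe_coe, LinearEquiv.symm_apply_apply]
  induction z with
  | zero => simp
  | tmul r x => simp [coef_inc_self]
  | add a b ha hb => simp only [map_add, ha, hb]

theorem coefR_incR_of_ne {j k : ℕ} (h : j ≠ k) (z : R ⊗[A₀] ↥(Fil A₀ J M₀ j)) :
    coefR A₀ J M₀ R k (incR A₀ J M₀ R j z) = 0 := by
  simp only [coefR, incR, LinearMap.comp_apply, LinearEquiv.coe_coe, LinearEquiv.symm_apply_apply]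
  induction z with
  | zero => simp
  | tmul r x => simp [coef_inc_of_ne _ _ _ h]
  | add a b ha hb => simp only [map_add, ha, hb, add_zero]

theorem exists_sum_incR_coefR (w : VR A₀ J M₀ R) :
    ∃ N, ∀ n, N ≤ n → ∑ k ∈ Finset.range n, incR A₀ J M₀ R k (coefR A₀ J M₀ R k w) = w := by
  obtain ⟨z, rfl⟩ := (eqV A₀ J M₀ R).surjective w
  suffices h : ∃ N, ∀ n, N ≤ n →
      ∑ k ∈ Finset.range n, (inc A₀ J M₀ k).baseChange R ((coef A₀ J M₀ k).baseChange R z) = z by
    obtain ⟨N, hN⟩ := h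
    refine ⟨N, fun n hn => ?_⟩
    conv_rhs => rw [← hN n hn, map_sum]
    simp only [incR, coefR, LinearMap.comp_apply, LinearEquiv.coe_coe, LinearEquiv.symm_apply_apply]
  induction z with
  | zero => exact ⟨0, fun n _ => by simp⟩
  | tmul r x =>
    obtain ⟨N, hN⟩ := exists_sum_inc_coef A₀ J M₀ x
    refine ⟨N, fun n hn => ?_⟩
    simp only [LinearMap.baseChange_tmul, ← tmul_sum, hN n hn]
  | add a b ha hb =>
    obtain ⟨N, hN⟩ := ha
    obtain ⟨N', hN'⟩ := hb
    refine ⟨max N N', fun n hn => ?_⟩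
    simp only [map_add, Finset.sum_add_distrib, hN n ((le_max_left _ _).trans hn),
      hN' n ((le_max_right _ _).trans hn)]

theorem mem_kerR_iff (w : VR A₀ J M₀ R) :
    w ∈ kerR A₀ J M₀ R ↔ ∀ k, coefR A₀ J M₀ R k w ∈ kerDeg A₀ J M₀ R k := by
  have hc : ∀ k (z : R ⊗[A₀] Rees J M₀), (coefQ A₀ J M₀ k).baseChange R
      (((reesMap J M₀).restrictScalars A₀).baseChange R z) =
      (psi A₀ J M₀ k).baseChange R ((coef A₀ J M₀ k).baseChange R z) := by
    intro k z
    induction z with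
    | zero => simp
    | tmul r x => simp [coefQ_reesMap]
    | add a b ha hb => simp only [map_add, ha, hb]
  have hi : ∀ k (z : R ⊗[A₀] ↥(Fil A₀ J M₀ k)), ((reesMap J M₀).restrictScalars A₀).baseChange R
      ((inc A₀ J M₀ k).baseChange R z) =
      (incQ A₀ J M₀ k).baseChange R ((psi A₀ J M₀ k).baseChange R z) := by
    intro k z
    induction z with
    | zero => simp
    | tmul r x => simp [reesMap_inc]
    | add a b ha hb => simp only [map_add, ha, hb]
  constructor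
  · intro hw k
    obtain ⟨z, rfl⟩ := (eqV A₀ J M₀ R).surjective w
    have h0 : reesMapR A₀ J M₀ R (eqV A₀ J M₀ R z) = 0 := hw
    rw [reesMapR_eqV, LinearEquiv.map_eq_zero_iff] at h0
    show (psi A₀ J M₀ k).baseChange R _ = 0
    simp only [coefR, LinearMap.comp_apply, LinearEquiv.coe_coe, LinearEquiv.symm_apply_apply]
    rw [← hc, h0, map_zero]
  · intro h
    obtain ⟨N, hN⟩ := exists_sum_incR_coefR A₀ J M₀ R w
    rw [← hN N le_rfl]
    refine Submodule.sum_mem _ fun k _ => ?_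
    show reesMapR A₀ J M₀ R _ = 0
    simp only [incR, LinearMap.comp_apply, LinearEquiv.coe_coe]
    rw [reesMapR_eqV, hi]
    have := h k
    rw [kerDeg, LinearMap.mem_ker] at this
    rw [this, map_zero, map_zero]

theorem incR_mem_kerR {k : ℕ} {z : R ⊗[A₀] ↥(Fil A₀ J M₀ k)} (hz : z ∈ kerDeg A₀ J M₀ R k) :
    incR A₀ J M₀ R k z ∈ kerR A₀ J M₀ R := by
  rw [mem_kerR_iff]
  intro j
  by_cases h : k = j
  · subst h; rwa [coefR_incR_self]
  · rw [coefR_incR_of_ne _ _ _ _ h]; exact zero_mem _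

/-- The part generated in degrees up to `d`. -/
noncomputable def genR (d : ℕ) : Submodule (SR A₀ J R) (VR A₀ J M₀ R) :=
  Submodule.span _ (⋃ (j : ℕ) (_ : j ≤ d), incR A₀ J M₀ R j '' (kerDeg A₀ J M₀ R j : Set _))

theorem genR_mono {d d' : ℕ} (h : d ≤ d') : genR A₀ J M₀ R d ≤ genR A₀ J M₀ R d' :=
  Submodule.span_mono (Set.iUnion₂_subset fun j hj => Set.subset_iUnion₂_of_subset j (hj.trans h) subset_rfl)

section Functorial

variable {R} {R' : Type u} [CommRing R'] [Algebra A₀ R'] (φ : R →ₐ[A₀] R')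

/-- Functoriality of the Rees module over `R`. -/
noncomputable abbrev vMap : VR A₀ J M₀ R →ₗ[↥(reesAlgebra J)] VR A₀ J M₀ R' :=
  mMap A₀ (↥(reesAlgebra J)) (Rees J M₀) φ

theorem eqV_symm_vMap (w : VR A₀ J M₀ R) :
    (eqV A₀ J M₀ R').symm (vMap A₀ J M₀ φ w) = φ.toLinearMap.rTensor _ ((eqV A₀ J M₀ R).symm w) :=
  equiv_mMap A₀ (↥(reesAlgebra J)) (Rees J M₀) φ w

theorem vMap_incR (k : ℕ) (z : R ⊗[A₀] ↥(Fil A₀ J M₀ k)) :
    vMap A₀ J M₀ φ (incR A₀ J M₀ R k z) = incR A₀ J M₀ R' k (φ.toLinearMap.rTensor _ z) := by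
  apply (eqV A₀ J M₀ R').symm.injective
  simp only [eqV_symm_vMap, incR, LinearMap.comp_apply, LinearEquiv.coe_coe, LinearEquiv.symm_apply_apply]
  induction z with
  | zero => simp
  | tmul r x => simp
  | add a b ha hb => simp only [map_add, ha, hb]

theorem coefR_vMap (k : ℕ) (w : VR A₀ J M₀ R) :
    coefR A₀ J M₀ R' k (vMap A₀ J M₀ φ w) = φ.toLinearMap.rTensor _ (coefR A₀ J M₀ R k w) := by
  simp only [coefR, LinearMap.comp_apply, LinearEquiv.coe_coe, eqV_symm_vMap]
  induction (eqV A₀ J M₀ R).symm w with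
  | zero => simp
  | tmul r x => simp
  | add a b ha hb => simp only [map_add, ha, hb]

theorem rTensor_mem_kerDeg {k : ℕ} {z : R ⊗[A₀] ↥(Fil A₀ J M₀ k)} (hz : z ∈ kerDeg A₀ J M₀ R k) :
    φ.toLinearMap.rTensor _ z ∈ kerDeg A₀ J M₀ R' k := by
  show (psi A₀ J M₀ k).baseChange R' _ = 0
  have key : ∀ z : R ⊗[A₀] ↥(Fil A₀ J M₀ k), (psi A₀ J M₀ k).baseChange R' (φ.toLinearMap.rTensor _ z) =
      φ.toLinearMap.rTensor _ ((psi A₀ J M₀ k).baseChange R z) := by
    intro z
    induction z with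
    | zero => simp
    | tmul r x => simp
    | add a b ha hb => simp only [map_add, ha, hb]
  rw [key, LinearMap.mem_ker.1 hz, map_zero]

theorem vMap_mem_genR {d : ℕ} {w : VR A₀ J M₀ R} (hw : w ∈ genR A₀ J M₀ R d) :
    vMap A₀ J M₀ φ w ∈ genR A₀ J M₀ R' d := by
  induction hw using Submodule.span_induction with
  | mem x hx =>
    simp only [Set.mem_iUnion, Set.mem_image] at hx
    obtain ⟨j, hj, z, hz, rfl⟩ := hx
    rw [vMap_incR]
    refine Submodule.subset_span ?_
    simp only [Set.mem_iUnion, Set.mem_image]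
    exact ⟨j, hj, _, rTensor_mem_kerDeg A₀ J M₀ φ hz, rfl⟩
  | zero => rw [map_zero]; exact zero_mem _
  | add a b _ _ ha hb => rw [map_add]; exact add_mem ha hb
  | smul s a _ ha =>
    rw [show vMap A₀ J M₀ φ (s • a) = sMap A₀ _ φ s • vMap A₀ J M₀ φ a from mMap_smul A₀ _ _ φ s a]
    exact Submodule.smul_mem _ _ ha

set_option maxHeartbeats 800000 in
/-- Spans over the Rees algebra over `R'` of images from `R` are spans over `R'`. -/
theorem mem_span_vMap (P : Submodule (SR A₀ J R) (VR A₀ J M₀ R)) {w : VR A₀ J M₀ R'}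
    (hw : w ∈ Submodule.span (SR A₀ J R') (vMap A₀ J M₀ φ '' (P : Set _))) :
    w ∈ Submodule.span R' (vMap A₀ J M₀ φ '' (P : Set _)) := by
  induction hw using Submodule.span_induction with
  | mem x hx => exact Submodule.subset_span hx
  | zero => exact zero_mem _
  | add a b _ _ ha hb => exact add_mem ha hb
  | smul s a ha0 ha =>
    clear ha0
    induction s using TensorProduct.induction_on with
    | zero => rw [zero_smul]; exact zero_mem _
    | tmul c t =>
      have hc : (c ⊗ₜ[A₀] t : SR A₀ J R') = algebraMap R' (SR A₀ J R') c * sMap A₀ _ φ ((1 : R) ⊗ₜ t) := by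
        simp [Algebra.TensorProduct.algebraMap_apply]
      rw [hc, mul_smul, algebraMap_smul]
      refine Submodule.smul_mem _ _ ?_
      induction ha using Submodule.span_induction with
      | mem x hx =>
        obtain ⟨y, hy, rfl⟩ := hx
        rw [← show vMap A₀ J M₀ φ ((((1 : R) ⊗ₜ t : SR A₀ J R)) • y) = _ from mMap_smul A₀ _ _ φ _ y]
        exact Submodule.subset_span ⟨_, P.smul_mem _ hy, rfl⟩
      | zero => rw [smul_zero]; exact zero_mem _
      | add a b _ _ ha hb => rw [smul_add]; exact add_mem ha hb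
      | smul r a _ ha => rw [smul_comm]; exact Submodule.smul_mem _ _ ha
    | add s t hs ht => rw [add_smul]; exact add_mem hs ht

theorem coefR_mem_span (k : ℕ) {w : VR A₀ J M₀ R'}
    (hw : w ∈ Submodule.span (SR A₀ J R') (vMap A₀ J M₀ φ '' (kerR A₀ J M₀ R : Set _))) :
    coefR A₀ J M₀ R' k w ∈
      Submodule.span R' (φ.toLinearMap.rTensor _ '' (kerDeg A₀ J M₀ R k : Set _)) := by
  have h := mem_span_vMap A₀ J M₀ φ _ hw
  clear hw
  induction h using Submodule.span_induction with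
  | mem x hx =>
    obtain ⟨y, hy, rfl⟩ := hx
    rw [coefR_vMap]
    exact Submodule.subset_span ⟨_, (mem_kerR_iff A₀ J M₀ R y).1 hy k, rfl⟩
  | zero => rw [map_zero]; exact zero_mem _
  | add a b _ _ ha hb => rw [map_add]; exact add_mem ha hb
  | smul r a _ ha => rw [map_smul]; exact Submodule.smul_mem _ _ ha

end Functorial

end Groth.Ega43Gr
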